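import Cfsg.Agent.SC3.Defs
import Cfsg.Agent.StdX.Fr1
import Cfsg.Agent.StdW.Front

/-!
# Standard subgroups of type `Co₃`: the 2-central class
-/

set_option autoImplicit false
set_option linter.unusedSectionVars false

namespace Cfsg.Lib.SC3

open Subgroup Cfsg.Lib.Gold Cfsg.Lib.Trans Cfsg.Lib.StdSz Cfsg.Lib.StdW Cfsg.Lib.SGn
open Cfsg.Lib.StdM (Cl Tr)
open scoped commutatorElement

universe u

variable {G Ω : Type*} [Group G] [Group Ω] [Finite G] [Finite Ω] {Γ Γ0 T : Subgroup Ω} {z y : Ω} {n r : ℕ}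
  {A O B : Subgroup G} {ρ ρ' : G → Ω} {t : G}

namespace Fr1

open StdX.Fr1 (card_le card_sup comm_mem inf_bot cN2)

variable (b : Bs Γ Γ0 T z y n r) (h : Mdl Γ Γ0 A ρ)
include b h

theorem exists_big {X : Subgroup G} (hX : X ≤ Ns A) (h2 : IsPGroup 2 X) (hd : X ⊓ A = ⊥) :
    ∃ R ≤ Cs A, IsPGroup 2 R ∧ Nat.card X ≤ Nat.card R * 2 := by
  let N : Subgroup G := (Γ0.comap h.hom).map (Ns A).subtype
  have hN : ∀ x, x ∈ N ↔ x ∈ Ns A ∧ ρ x ∈ Γ0 := fun x =>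
    ⟨fun ⟨u, hu, e⟩ => e ▸ ⟨u.2, hu⟩, fun e => ⟨⟨x, e.1⟩, e.2, rfl⟩⟩
  have h3 := card_le (X := X) (Y := N) fun x hx y hy hx' hy' => (hN _).2 ⟨mul_mem (hX hx) (hX hy), by
    rw [h.mul _ (hX hx) _ (hX hy)]
    exact b.idx _ (h.memΓ _ (hX hx)) _ (h.memΓ _ (hX hy)) (fun e => hx' ((hN _).2 ⟨hX hx, e⟩))
      fun e => hy' ((hN _).2 ⟨hX hy, e⟩)⟩
  have h4 : N ⊓ X ≤ Ns A := inf_le_right.trans hX
  have h5 := h2.to_le (inf_le_right : N ⊓ X ≤ X)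
  obtain ⟨S, s1, s2, s3, s4, -⟩ := h.lift_sub (Q := h.img (N ⊓ X)) (fun γ hγ => by
    obtain ⟨x, hx, -, rfl⟩ := h.mem_img.1 hγ
    exact ((hN x).1 hx.1).2) (h.two_img h5)
  have h6 : N ⊓ X ≤ Ns S := fun x hx => mem_normalizer_of_cj_le (cj_le_iff.2 fun a ha => by
    obtain ⟨a1, a2, k, a3⟩ := (s4 a).1 ha
    have : ρ x ∈ h.img (N ⊓ X) := h.mem_img.2 ⟨x, hx, h4 hx, rfl⟩
    exact (s4 _).2 ⟨mem_normalizer_conj (h4 hx) a1, by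
      rw [h.conj (h4 hx) (le_normalizer a1)]
      exact mul_mem (mul_mem this a2) (inv_mem this), k, by rw [conj_pow, a3]; group⟩)
  have h7 := card_sup h6 (eq_bot_iff.2 fun x hx => hd.le ⟨hx.2.2, s1 hx.1⟩)
  have h8 := h.card_img (sup_le (s1.trans le_normalizer) h4)
  have h9 : Nat.card (h.img (S ⊔ N ⊓ X)) ≤ Nat.card S := s3 ▸ Subgroup.card_le_of_le fun γ hγ => by
    obtain ⟨x, hx, -, rfl⟩ := h.mem_img.1 hγ
    obtain ⟨u, hu, r, hr, rfl⟩ := (Solv.mem_sup_of_le_normalizer h6).1 hx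
    rw [h.mul _ (le_normalizer (s1 hu)) _ (h4 hr)]
    exact mul_mem ((s4 u).1 hu).2.1 (h.mem_img.2 ⟨r, hr, h4 hr, rfl⟩)
  refine ⟨(S ⊔ N ⊓ X) ⊓ Cs A, inf_le_right, IsPGroup.to_le (by
    rw [sup_comm]; exact h5.to_sup_of_normal_right' s2 h6) inf_le_left,
    h3.trans (Nat.mul_le_mul_right _ (Nat.le_of_mul_le_mul_left (c := Nat.card S) ?_ Nat.card_pos))⟩
  rw [← h7, h8, mul_comm]
  exact Nat.mul_le_mul_right _ h9

omit b in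
theorem inf_bot' {P R : Subgroup G} (pA : P ≤ A) (p2 : IsPGroup 2 P) (hR : R ≤ Cs A) : P ⊓ R = ⊥ :=
  eq_bot_iff.2 fun _ hx => let ⟨_, hl⟩ := pow_of_two p2 hx.1; h.eq_one (pA hx.1) hl (hR hx.2)

/-- The lift of `T`. -/
theorem exists_P {ζ : G} (hζ : ζ ∈ A) (z2 : ζ * ζ = 1) (e : ρ ζ = z) : ∃ P ≤ A, IsPGroup 2 P ∧
    Nat.card P = 2 ^ n ∧ (∀ a ∈ P, ρ a ∈ T) ∧ (∀ γ ∈ T, ∃ a ∈ P, ρ a = γ) ∧ ζ ∈ P ∧ P ≤ C1 ζ ∧ ζ ≠ 1 ∧
    ∀ J, P ≤ Ns J → ζ ∉ J → P ⊓ J = ⊥ := by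
  obtain ⟨P, h1, h2, h3, h4, h5⟩ := h.lift_sub b.T0 b.twoT
  refine ⟨P, h1, h2, h3.trans b.cardT, fun a ha => ((h4 a).1 ha).2.1, h5,
    (h4 ζ).2 ⟨hζ, e ▸ b.zT, 1, Frn.pw z2⟩, fun x hx => StdJ4.mem_C1.2 (h.comm_of
      (le_normalizer (h1 hx)) hζ (Frn.pw z2) (e ▸ (StdJ4.mem_Cs.1 b.zc _ ((h4 x).1 hx).2.1).symm)),
    fun e' => b.z1 (by rw [← e, e', h.one]), fun J hJ hζJ => by_contra fun hne => ?_⟩
  obtain ⟨c, hc, hc', ho⟩ := exists_orderOf_eq_mem_centralizer (Q := P ⊓ J) h2 (h2.to_le inf_le_left)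
    ((le_inf le_normalizer hJ).trans inf_normalizer_le_normalizer_inf) hne
  have hcA := h1 hc.1
  obtain ⟨l, hl⟩ := pow_of_two h2 hc.1
  rcases b.mem_zp (b.centT ⟨h.memΓ c (le_normalizer hcA), StdJ4.mem_Cs.2 fun γ hγ => by
    obtain ⟨a, ha, rfl⟩ := h5 γ hγ
    exact h.commute (le_normalizer hcA) (le_normalizer (h1 ha)) (StdJ4.mem_Cs.1 hc' a ha)⟩) with e1 | e1
  · rw [h.eq_one hcA hl ((h.ker _ (le_normalizer hcA)).1 e1), orderOf_one] at ho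
    omega
  · exact hζJ (h.eq_of_two hcA hζ hl (Frn.pw z2) (e1.trans e.symm) ▸ hc.2)

variable (al : Al Γ0 T z) (hA : IsStandardSubgroup A)
include al hA

theorem zK {ζ : G} (hζ : ζ ∈ A) (z2 : ζ * ζ = 1) (e : ρ ζ = z) (g : G) : ζ ∉ Cs (cj g A) := fun h1 => by
  obtain ⟨P, pA, p2, pc, pT, ps, pζ, pC, z1, pJ⟩ := exists_P b h hζ z2 e
  have hg : g ∉ Ns A := fun e => z1 (h.eq_one hζ (Frn.pw z2) (cj_eq_of_mem_normalizer e ▸ h1))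
  have hN := Frn.cN' hA h1 z2 z1
  have m := h.cjg g
  obtain ⟨R', r1, r2, r3⟩ := exists_big b m (pC.trans hN) p2
    (pJ _ (pC.trans hN) fun e => z1 (m.eq_one e (Frn.pw z2) h1))
  have hR : cj g⁻¹ R' ≤ Cs A := by
    rw [← cj_inv_cj g (Cs A), StdJ4.cj_Cs]
    exact cj_mono _ r1
  rw [← card_cj g⁻¹ R'] at r3
  replace r2 := isPGroup_cj r2 g⁻¹
  generalize cj g⁻¹ R' = R at hR r2 r3
  have hRP : R ≤ Ns P := hR.trans ((StdJ4.Cs_anti pA).trans (StdJ4.Cs_le_Ns P))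
  have q2 : IsPGroup 2 ↥(P ⊔ R) := by
    rw [sup_comm]; exact r2.to_sup_of_normal_right' p2 hRP
  have qN : P ⊔ R ≤ Ns (cj g A) := (sup_le pC fun r hr =>
    StdJ4.mem_C1.2 (StdJ4.mem_Cs.1 (hR hr) ζ hζ)).trans hN
  have qA : P ⊔ R ≤ Ns A := sup_le (pA.trans le_normalizer) (hR.trans (StdJ4.Cs_le_Ns A))
  have c1 := card_sup hRP (inf_bot' h pA p2 hR)
  have c2 := m.card_img qN
  have c3 := b.two_le (m.img_le (P ⊔ R)) (m.two_img q2)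
  have c4 := h.card_img (inf_le_left.trans qA : (P ⊔ R) ⊓ Cs (cj g A) ≤ Ns A)
  rw [show (P ⊔ R) ⊓ Cs (cj g A) ⊓ Cs A = ⊥ from eq_bot_iff.2 fun x hx =>
    let ⟨l, hl⟩ := pow_of_two q2 hx.1.1
    inf_bot hA hg hl hx.2 hx.1.2, card_bot, one_mul] at c4
  have c5 : Nat.card T ≤ 4 * Nat.card (h.img ((P ⊔ R) ⊓ Cs (cj g A))) := by
    rw [b.cardT, ← c4]
    rw [pc] at c1 r3
    refine Nat.le_of_mul_le_mul_left (c := 2 ^ n) ?_ (by positivity)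
    calc 2 ^ n * 2 ^ n ≤ 2 ^ n * (Nat.card R * 2) := Nat.mul_le_mul_left _ r3
      _ = Nat.card ↥(P ⊔ R) * 2 := by rw [c1]; ring
      _ ≤ Nat.card ↥((P ⊔ R) ⊓ Cs (cj g A)) * 2 ^ (n + 1) * 2 := by
        rw [c2]; exact Nat.mul_le_mul_right _ (Nat.mul_le_mul_left _ c3)
      _ = _ := by ring
  have nK : ∀ u ∈ P, u ∈ Ns ((P ⊔ R) ⊓ Cs (cj g A)) := fun u hu =>
    inf_normalizer_le_normalizer_inf ⟨le_normalizer (mem_sup_left hu),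
      normalizer_le_normalizer_centralizer _ (qN (mem_sup_left hu))⟩
  obtain ⟨a, ha, a', ha', c, hc, h3, h4⟩ := al
  obtain ⟨p, hp, hp', e1⟩ := h.mem_img.1 (comm_mem (H := h.img ((P ⊔ R) ⊓ Cs (cj g A)))
    (fun γ hγ => by
      obtain ⟨x, hx, -, rfl⟩ := h.mem_img.1 hγ
      obtain ⟨u, hu, r, hr, rfl⟩ := (Solv.mem_sup_of_le_normalizer hRP).1 hx.1
      rw [h.mul _ (le_normalizer (pA hu)) _ (StdJ4.Cs_le_Ns A (hR hr)),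
        (h.ker _ (StdJ4.Cs_le_Ns A (hR hr))).2 (hR hr), mul_one]
      exact pT u hu)
    (fun γ hγ => by
      obtain ⟨u, hu, rfl⟩ := ps γ hγ
      refine mem_normalizer_of_cj_le (cj_le_iff.2 fun δ hδ => ?_)
      obtain ⟨x, hx, hx', rfl⟩ := h.mem_img.1 hδ
      have hu' : u ∈ Ns A := le_normalizer (pA hu)
      exact h.mem_img.2 ⟨_, mem_normalizer_conj (nK u hu) hx, mul_mem (mul_mem hu' hx') (inv_mem hu'),
        h.conj hu' hx'⟩) b.twoT c5 ha ha')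
  obtain ⟨w, hw, rfl⟩ := ps c hc
  have α1 : ⁅p, w⁆ ∈ (P ⊔ R) ⊓ Cs (cj g A) := by
    have := mul_mem hp (mem_normalizer_conj (nK w hw) (inv_mem hp))
    rwa [← mul_assoc, ← mul_assoc] at this
  have αA : ⁅p, w⁆ ∈ A := mul_mem (mem_normalizer_conj hp' (pA hw)) (inv_mem (pA hw))
  have αρ : ρ ⁅p, w⁆ = ⁅⁅a, a'⁆, ρ w⁆ := by rw [h.comm hp' (le_normalizer (pA hw)), e1]
  obtain ⟨l, hl⟩ := pow_of_two q2 α1.1
  have h5 := cN2 hA α1.2 hl fun e => h3 (by rw [← αρ, e, h.one])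
  have h6 : A ≤ Ns (cj g A) := h.le_of_surj fun γ hγ => by
    obtain ⟨x, hx, -, e⟩ := h.mem_img.1 ((sup_le (c := h.img (A ⊓ Ns (cj g A))) (fun δ hδ => by
      obtain ⟨x, hx, rfl⟩ := h.surj δ hδ.1
      exact h.mem_img.2 ⟨x, ⟨hx, hN (StdJ4.mem_C1.2 (h.comm_of (le_normalizer hx) hζ (Frn.pw z2)
        (e ▸ StdJ4.mem_C1.1 hδ.2)))⟩, le_normalizer hx, rfl⟩)
      fun δ hδ => by
        obtain ⟨x, hx, rfl⟩ := h.surj δ hδ.1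
        exact h.mem_img.2 ⟨x, ⟨hx, h5 (StdJ4.mem_C1.2 (h.comm_of (le_normalizer hx) αA hl
          (αρ ▸ StdJ4.mem_C1.1 hδ.2)))⟩, le_normalizer hx, rfl⟩) (h4 hγ))
    exact ⟨x, hx.1, hx.2, e⟩
  exact hA.2.2.1 g (fun e => hg (cj_eq_self_iff.1 e)) (commutator_eq_bot_iff_le_centralizer.2
    (b.le_of_normal h (h6.trans (normalizer_le_normalizer_centralizer _)) hζ h1 (e ▸ b.z1)))

theorem small_z {ζ k g : G} (hg : g ∉ Ns A) (hζ : ζ ∈ A) (z2 : ζ * ζ = 1) (e : ρ ζ = z) (hk : k ∈ Cs A)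
    (k2 : k * k = 1) (hd : ζ * k ∈ Cs (cj g A)) : k ≠ 1 ∧ Frn.Small A k := by
  have hK := zK b h al hA hζ z2 e g
  have k1 : k ≠ 1 := fun e => hK (by rwa [e, mul_one] at hd)
  refine ⟨k1, fun c hc ck l hl => by_contra fun hne => ?_⟩
  obtain ⟨n1, n2⟩ := not_or.1 hne
  obtain ⟨P, pA, p2, pc, pT, ps, pζ, pC, z1, pJ⟩ := exists_P b h hζ z2 e
  have kζ := StdJ4.mem_Cs.1 hk ζ hζ
  have hN := Frn.cN' hA hd (by rw [kζ.mul_mul_mul_comm, z2, k2, one_mul])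
    fun e => z1 (h.eq_one hζ (Frn.pw z2) (eq_inv_of_mul_eq_one_left e ▸ (Cs A).inv_mem hk))
  have m := h.cjg g
  have r2 := two_sup_zpowers (two_zpowers hl) (Frn.pw k2) fun u ⟨i, e⟩ => e ▸ ck.zpow_left i
  have r1 : zpowers c ⊔ zpowers k ≤ Cs A ⊓ C1 k ⊓ C1 c :=
    sup_le (zpowers_le.2 ⟨⟨hc, StdJ4.mem_C1.2 ck⟩, StdJ4.mem_C1.2 (Commute.refl c)⟩)
      (zpowers_le.2 ⟨⟨hk, StdJ4.mem_C1.2 (Commute.refl k)⟩, StdJ4.mem_C1.2 ck.symm⟩)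
  have rc : c ∈ zpowers c ⊔ zpowers k := mem_sup_left (mem_zpowers c)
  have rk : k ∈ zpowers c ⊔ zpowers k := mem_sup_right (mem_zpowers k)
  generalize zpowers c ⊔ zpowers k = R at r1 r2 rc rk
  have hR : R ≤ Cs A := r1.trans (inf_le_left.trans inf_le_left)
  have r4 : 4 ≤ Nat.card R := by
    obtain ⟨j, hj⟩ := IsPGroup.iff_card.1 r2
    have : ¬ Nat.card R ≤ 2 := fun e => hne (Frn.of_card_le e rk k1 rc)
    rw [hj] at this ⊢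
    exact Nat.pow_le_pow_right (n := 2) (by norm_num) (show 2 ≤ j by
      by_contra h'
      exact this (Nat.pow_le_pow_right (n := 2) (by norm_num) (show j ≤ 1 by omega)))
  have hRP : R ≤ Ns P := hR.trans ((StdJ4.Cs_anti pA).trans (StdJ4.Cs_le_Ns P))
  have q2 : IsPGroup 2 ↥(P ⊔ R) := by
    rw [sup_comm]; exact r2.to_sup_of_normal_right' p2 hRP
  have qζ : P ⊔ R ≤ C1 ζ := sup_le pC fun r hr => StdJ4.mem_C1.2 (StdJ4.mem_Cs.1 (hR hr) ζ hζ)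
  have qk : P ⊔ R ≤ C1 k := sup_le (fun u hu => StdJ4.mem_C1.2 (StdJ4.mem_Cs.1 hk u (pA hu)).symm)
    fun r hr => (r1 hr).1.2
  have qc : P ⊔ R ≤ C1 c := sup_le (fun u hu => StdJ4.mem_C1.2 (StdJ4.mem_Cs.1 hc u (pA hu)).symm)
    fun r hr => (r1 hr).2
  have qN : P ⊔ R ≤ Ns (cj g A) := fun x hx => hN (StdJ4.mem_C1.2
    ((StdJ4.mem_C1.1 (qζ hx)).mul_right (StdJ4.mem_C1.1 (qk hx))))
  have qA : P ⊔ R ≤ Ns A := sup_le (pA.trans le_normalizer) (hR.trans (StdJ4.Cs_le_Ns A))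
  have qP : P ⊔ R ≤ Ns P := sup_le le_normalizer hRP
  have pK := (le_sup_left.trans qN).trans (normalizer_le_normalizer_centralizer _)
  have h0 : ∀ x ∈ P ⊔ R, x ∈ Cs A → x ∈ Cs (cj g A) → x = 1 := fun x hx =>
    let ⟨_, hl⟩ := pow_of_two q2 hx
    inf_bot hA hg hl
  have dQ : ζ * k ∈ P ⊔ R := mul_mem_sup pζ rk
  have h1 : ∀ p ∈ (P ⊔ R) ⊓ Cs (cj g A), p = 1 ∨ p = ζ * k := fun p hp => by
    refine (b.mem_zp (b.centT ⟨h.memΓ p (qA hp.1), StdJ4.mem_Cs.2 fun γ hγ => ?_⟩)).imp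
      (fun e1 => h0 p hp.1 ((h.ker _ (qA hp.1)).1 e1) hp.2) fun e1 => ?_
    · obtain ⟨u, hu, rfl⟩ := ps γ hγ
      refine h.commute (qA hp.1) (le_normalizer (pA hu)) (commutatorElement_eq_one_iff_commute.1
        (mem_bot.1 ((pJ _ pK hK).le (mem_inf.2 ⟨mul_mem (mem_normalizer_conj (qP hp.1) hu) (inv_mem hu), ?_⟩))))
      have := mul_mem hp.2 (mem_normalizer_conj (pK hu) (inv_mem hp.2))
      rwa [← mul_assoc, ← mul_assoc] at this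
    · refine (inv_mul_eq_one.1 (h0 _ (mul_mem (inv_mem dQ) hp.1) (h.mem_Cs_of (qA dQ) (qA hp.1) ?_)
        (mul_mem (inv_mem hd) hp.2))).symm
      rw [h.mul _ (le_normalizer hζ) _ (StdJ4.Cs_le_Ns A hk), (h.ker _ (StdJ4.Cs_le_Ns A hk)).2 hk,
        mul_one, e, e1]
  have c0 : Nat.card ↥((P ⊔ R) ⊓ Cs (cj g A)) ≤ 2 := by
    have : ((((P ⊔ R) ⊓ Cs (cj g A) : Subgroup G)) : Set G) ⊆ {1, ζ * k} := h1
    exact (Set.ncard_le_ncard this).trans ((Set.ncard_insert_le _ _).trans (by rw [Set.ncard_singleton]))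
  have c1 := card_sup hRP (inf_bot' h pA p2 hR)
  have c2 := m.card_img qN
  have c3 := card_le (X := m.img (P ⊔ R)) (Y := Γ0) fun x hx y hy =>
    b.idx x (m.img_le _ hx) y (m.img_le _ hy)
  have c4 : Nat.card ↥(Γ0 ⊓ m.img (P ⊔ R)) = 2 ^ n := by
    refine (b.syl _ inf_le_left ((m.two_img q2).to_le inf_le_right)).antisymm ?_
    refine Nat.le_of_mul_le_mul_right (c := 4) ?_ (by norm_num)
    calc 2 ^ n * 4 ≤ Nat.card ↥(P ⊔ R) := by rw [c1, pc]; exact Nat.mul_le_mul_left _ r4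
      _ ≤ 2 * (Nat.card ↥(Γ0 ⊓ m.img (P ⊔ R)) * 2) := by rw [c2]; exact Nat.mul_le_mul c0 c3
      _ = _ := by ring
  obtain ⟨γ, hγ, e1⟩ := b.cj_T inf_le_left c4
  have key : ∀ x ∈ P ⊔ R, P ⊔ R ≤ C1 x → x ∉ Cs (cj g A) → γ⁻¹ * ρ (g⁻¹ * x * g) * γ = z := by
    intro x hx h2 h3
    refine (b.mem_zp (b.centT (mem_inf.2 ⟨mul_mem (mul_mem (inv_mem (b.le hγ)) (m.memΓ x (qN hx)))
      (b.le hγ), mem_cj.1 ?_⟩))).resolve_left fun e2 => h3 ((m.ker x (qN hx)).1 ?_)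
    · rw [StdJ4.cj_Cs, e1]
      refine StdJ4.mem_Cs.2 fun δ hδ => ?_
      obtain ⟨u, hu, hu', rfl⟩ := m.mem_img.1 hδ.2
      exact m.commute (qN hx) hu' (StdJ4.mem_C1.1 (h2 hu)).symm
    · simpa [mul_assoc] using congrArg (fun x => γ * x * γ⁻¹) e2
  have h2 := (key ζ (mem_sup_left pζ) qζ hK).trans
    (key c (mem_sup_right rc) qc fun e => n1 (h0 c (mem_sup_right rc) hc e)).symm
  rcases h1 (ζ⁻¹ * c) (mem_inf.2 ⟨mul_mem (inv_mem (mem_sup_left pζ)) (mem_sup_right rc),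
    m.mem_Cs_of (qN (mem_sup_left pζ)) (qN (mem_sup_right rc))
      (mul_left_cancel (mul_right_cancel h2))⟩) with e2 | e2
  · exact z1 (h.eq_one hζ (Frn.pw z2) (inv_mul_eq_one.1 e2 ▸ hc))
  · exact n2 (by rw [inv_mul_eq_iff_eq_mul.1 e2, ← mul_assoc, z2, one_mul])

omit al hA in
theorem exists_ζ {a : G} (ha : a ∈ A) (a2 : a * a = 1) (hz : Cl Γ0 z (ρ a)) :
    ∃ x ∈ A, ∃ ζ ∈ A, ζ * ζ = 1 ∧ ρ ζ = z ∧ x * ζ * x⁻¹ = a := by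
  obtain ⟨ζ, hζ, z2, e⟩ := h.lift_inv b.z0 b.z2
  obtain ⟨x, hx, e'⟩ := StdX.Bas.cl_lift h hζ ha z2 a2 (e ▸ hz)
  exact ⟨x, hx, ζ, hζ, z2, e, e'⟩

end Fr1

section Fr1
variable (b : Bs Γ Γ0 T z y n r) (h : Mdl Γ Γ0 A ρ) (al : Al Γ0 T z) (hA : IsStandardSubgroup A)
include b h al hA

theorem zK {a : G} (ha : a ∈ A) (a2 : a * a = 1) (hz : Cl Γ0 z (ρ a)) (g : G) : a ∉ Cs (cj g A) := fun h1 => by
  obtain ⟨x, -, ζ, hζ, z2, e, rfl⟩ := Fr1.exists_ζ b h ha a2 hz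
  exact Fr1.zK b h al hA hζ z2 e (x⁻¹ * g) (by rwa [cj_mul, ← StdJ4.cj_Cs, mem_cj_inv])

theorem small_z {a k g : G} (hg : g ∉ Ns A) (ha : a ∈ A) (a2 : a * a = 1) (hz : Cl Γ0 z (ρ a))
    (hk : k ∈ Cs A) (k2 : k * k = 1) (hd : a * k ∈ Cs (cj g A)) : k ≠ 1 ∧ Frn.Small A k := by
  obtain ⟨x, hx, ζ, hζ, z2, e, rfl⟩ := Fr1.exists_ζ b h ha a2 hz
  refine Fr1.small_z b h al hA (g := x⁻¹ * g)
    (fun e => hg ((mul_mem_cancel_left (inv_mem (le_normalizer hx))).1 e)) hζ z2 e hk k2 ?_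
  rwa [cj_mul, ← StdJ4.cj_Cs, mem_cj_inv, ← mul_assoc, mul_assoc _ k,
    (StdJ4.mem_Cs.1 hk _ (inv_mem hx)).eq, ← mul_assoc]

end Fr1

end Cfsg.Lib.SC3
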