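import Cfsg.Agent.SC3.MBd
import Cfsg.Agent.Spor.Co0OutA

/-! The basic facts on the model of `Co₃`. -/

set_option autoImplicit false
set_option maxRecDepth 100000

namespace Cfsg.Lib.SC3

open Subgroup Cfsg.Lib.Trans Cfsg.Lib.StdSz Cfsg.Lib.StdW Cfsg.Lib.SGn
open Cfsg.Lib.Gold hiding mem_Cs mem_C1
open Cfsg.Lib.Spor Cfsg.Lib.Spor.Bulk Cfsg.Lib.Spor.WF
open Cfsg.Lib.StdM (Cl)
open scoped commutatorElement

variable {Ω : Type*} [Group Ω]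

theorem mem_Cs_sub {g : ℕ → Ω} {W : List (List ℕ)} {x : Ω} :
    x ∈ Cs (sub g W) ↔ ∀ L ∈ W, Commute x (wv g L) :=
  ⟨fun h _ hL => mem_Cs.1 h _ (wv_mem_sub g hL), fun h => mem_Cs.2 fun _ ha =>
    (mem_C1.1 (sub_le (H := C1 x) (fun L hL => mem_C1.2 (h L hL).symm) ha)).symm⟩

theorem cl_of {Γ : Subgroup Ω} {z a u : Ω} (hu : u ∈ Γ) (e : a * u = u * z) : Cl Γ z a :=
  ⟨u, hu, by rw [← e, mul_inv_cancel_right]⟩

theorem two_le_of [Finite Ω] {Q H : Subgroup Ω} (h : Q ≤ H) (q : IsPGroup 2 Q) {k : ℕ}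
    (n : ¬ 2 ^ (k + 1) ∣ Nat.card H) : Nat.card Q ≤ 2 ^ k := by
  have : Fact (Nat.Prime 2) := ⟨Nat.prime_two⟩
  obtain ⟨m, hm⟩ := IsPGroup.iff_card.1 q
  have e := card_dvd_of_le h
  rw [hm] at e ⊢
  exact Nat.pow_le_pow_right two_pos (not_lt.1 fun l => n ((pow_dvd_pow 2 l).trans e))

theorem cm_le_sup {J : Subgroup Ω} {σ : Ω} (hn : σ ∈ Ns J) :
    ⁅zpowers σ ⊔ J, zpowers σ ⊔ J⁆ ≤ J := by
  have e := coe_mul_of_left_le_normalizer_right (zpowers σ) J (zpowers_le.2 hn)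
  refine commutator_le.2 fun x hx y hy => ?_
  rw [← SetLike.mem_coe, e] at hx hy
  obtain ⟨_, ⟨i, rfl⟩, a, ha, rfl⟩ := hx
  obtain ⟨_, ⟨j, rfl⟩, b, hb, rfl⟩ := hy
  have k := fun (n : ℤ) {c : Ω} (hc : c ∈ J) => mem_normalizer_conj (zpow_mem hn n) hc
  have := mul_mem (mul_mem (k i ha) (k (i + j) (mul_mem hb (inv_mem ha)))) (k j (inv_mem hb))
  convert this using 1
  simp only [commutatorElement_def]
  group

theorem cm_inv {a b : Ω} (ha : a * a = 1) (hb : b * b = 1) : ⁅a, b⁆ = a * b * a * b := by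
  rw [commutatorElement_def, inv_eq_of_mul_eq_one_right ha, inv_eq_of_mul_eq_one_right hb]

theorem inner_G0 (φ : MulAut G0) : ∃ g ∈ G0, ∀ x : G0, (φ x : P276) = g * x * g⁻¹ := by
  obtain ⟨e⟩ := iso
  have h : Inn Spor.Co3 = ⊤ := index_eq_one.1 CK.card_out_Co3
  obtain ⟨c, hc⟩ : MulAut.congr e φ ∈ Inn Spor.Co3 := h ▸ mem_top _
  refine ⟨e.symm c, (e.symm c).2, fun x => ?_⟩
  have := congrArg e.symm (DFunLike.congr_fun hc (e x))
  simp only [MulAut.conj_apply, map_mul, map_inv, MulEquiv.symm_apply_apply, MulAut.congr_apply,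
    MulEquiv.trans_apply] at this
  rw [← this]; rfl

/-- the generators of `T` -/
def W8' : List (List ℕ) := [[1], [2], [3], [4], [5], [6], [7], [8]]

theorem bs_of [Finite Ω] {g : ℕ → Ω} {S : ℕ → Subgroup Ω} {Γ : Subgroup Ω} (hm : ∀ l, g l ∈ Γ)
    (simple : IsSimpleGroup Γ) (aut : ∀ φ : MulAut Γ, ∃ c ∈ Γ, ∀ x : Γ, (φ x : Ω) = c * x * c⁻¹)
    (nG : Nat.card Γ = NG) (ny : Nat.card ↥(Γ ⊓ C1 (wv g [7, 8])) = 190080)
    (S0 : S 0 = sub g W8') (k0 : Nat.card (S 0) = 1024)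
    (S1 : S 1 = sub g [[1], [3], [4], [8], [7], [5, 7, 5, 2], [6, 8, 7, 3, 6]])
    (k1 : Nat.card (S 1) = 128) (S2 : S 2 = sub g [[2], [5, 7, 5, 7, 3]]) (k2 : Nat.card (S 2) = 8)
    (cen : Nat.card ↥(Γ ⊓ Cs (sub g DT)) = 8) (hC : fC.sem S g) (hE : fE.sem S g) (hQ : fQ.sem S g) :
    Bs Γ Γ (S 0) (g 1) (wv g [7, 8]) 10 7 := by
  have : Fact (Nat.Prime 2) := ⟨Nat.prime_two⟩
  have wΓ : ∀ L, wv g L ∈ Γ := fun L => wv_mem _ fun l _ => hm l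
  have lT : ∀ l ∈ [1, 2, 3, 4, 5, 6, 7, 8], g l ∈ S 0 := fun l hl => by
    simpa [S0] using wv_mem_sub g ((by decide : ∀ l ∈ [1, 2, 3, 4, 5, 6, 7, 8], [l] ∈ W8') l hl)
  have wT : ∀ L : List ℕ, (∀ l ∈ L, l ∈ [1, 2, 3, 4, 5, 6, 7, 8]) → wv g L ∈ S 0 := fun L h =>
    wv_mem _ fun l hl => lT l (h l hl)
  have leT : ∀ {H : Subgroup Ω}, (∀ l ∈ [1, 2, 3, 4, 5, 6, 7, 8], g l ∈ H) → S 0 ≤ H := fun h =>
    S0 ▸ sub_le fun L hL => wv_mem _ fun l hl =>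
      h l ((by decide : ∀ L ∈ W8', ∀ l ∈ L, l ∈ [1, 2, 3, 4, 5, 6, 7, 8]) L hL l hl)
  have TΓ : S 0 ≤ Γ := leT fun l _ => hm l
  obtain ⟨q1, q2, q3, q4, q5, q6, q7, q8, q9, q10, q11, q12⟩ := hQ
  simp only [sem_andL, Fm.sem, wv_append] at q1 q2 q3 q4 q11 q12
  have i2 : ∀ l ∈ [1, 2, 3, 4, 5, 6, 7, 8], g l * g l = 1 := fun l hl => by simpa using (q1 l hl).1
  have cm : ∀ a ∈ [1, 2, 3, 4, 5, 6, 7, 8], ∀ b ∈ [1, 2, 3, 4, 5, 6, 7, 8],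
      wv g [a, b, a, b] ∈ ⁅S 0, S 0⁆ := fun a ha b hb => by
    simpa [cm_inv (i2 b hb) (i2 a ha)] using commutator_mem_commutator (lT b hb) (lT a ha)
  have zc : g 1 ∈ Cs (S 0) := mem_Cs.2 fun a ha =>
    (mem_C1.1 (leT (H := C1 (g 1)) (fun l hl => mem_C1.2 (by simpa [commute_iff_eq] using (q1 l hl).2.symm)) ha)).symm
  have z1 : g 1 ≠ 1 := by simpa [Fm.sem] using q5
  have cE : Γ ⊓ Cs ⁅S 0, S 0⁆ ≤ S 2 := by
    refine le_trans (inf_le_inf_left _ (centralizer_le (sub_le (W := DT) ?_))) (ge_of_card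
      (S2 ▸ sub_le fun L hL => ⟨wΓ L, mem_Cs_sub.2 fun d hd => q3 L hL d hd⟩) (cen.trans k2.symm).le)
    simp only [DT, List.forall_mem_cons]
    exact ⟨cm _ (by decide) _ (by decide), cm _ (by decide) _ (by decide),
      cm _ (by decide) _ (by decide), cm _ (by decide) _ (by decide), by simp⟩
  have ET : S 2 ≤ S 0 := S2 ▸ sub_le fun L hL => wT L
    ((by decide : ∀ L ∈ [[2], [5, 7, 5, 7, 3]], ∀ l ∈ L, l ∈ [1, 2, 3, 4, 5, 6, 7, 8]) L hL)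
  have hE' : ∀ a ∈ S 2, (∀ b ∈ S 2, a * b = b * a) ∧
      ((∀ l ∈ [1, 2, 3, 4, 5, 6, 7, 8], a * g l = g l * a) → a = 1 ∨ a = g 1) := by
    simpa [fE, andL, Fm.sem, upd_apply] using hE
  have hC' : ∀ a ∈ S 0, a * a = 1 → a = 1 ∨ Cl Γ (g 1) a ∨
      Cl Γ (wv g [7, 8]) a ∧ Cl Γ (wv g [7, 8]) (a * g 1) := fun a ha h2 => by
    have m : ∀ L, wv (upd g 40 a) L ∈ Γ := fun L => wv_mem _ fun l _ => by
      rw [upd_apply]; split_ifs; exacts [TΓ ha, hm l]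
    have := hC a ha (by simpa [Fm.sem, upd_apply] using h2)
    simp only [Fm.sem, sem_orL, wv_append, wv_cons, wv_nil, one_mul, upd_apply, Nat.reduceEqDiff,
      ↓reduceIte, mul_assoc] at this ⊢
    exact this.imp_right (Or.imp (fun ⟨u, _, e⟩ => cl_of (m u) e) fun ⟨⟨u, _, e⟩, v, _, f⟩ =>
      ⟨cl_of (m u) e, cl_of (m v) (by rw [mul_assoc, f])⟩)
  have sylR : ∀ Q ≤ Γ ⊓ C1 (wv g [7, 8]), IsPGroup 2 Q → Nat.card Q ≤ 2 ^ 7 := fun Q h q =>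
    two_le_of h q (by rw [ny]; decide)
  have pT : IsPGroup 2 (S 0) := IsPGroup.of_card (n := 10) k0
  have nzy : ¬ Cl Γ (g 1) (wv g [7, 8]) := fun ⟨c, hc, e⟩ => by
    have := sylR (cj c (S 0)) (cj_le_iff.2 fun t ht => mem_inf.2 ⟨mul_mem (mul_mem hc (TΓ ht))
      (inv_mem hc), mem_C1.2 (e ▸ (mem_Cs.1 zc t ht).symm.conj c)⟩) (IsPGroup.of_card (n := 10) ((card_cj _ _).trans k0))
    rw [card_cj, k0] at this; omega
  have R1 : S 1 ≤ S 0 ⊓ C1 (wv g [7, 8]) := S1 ▸ sub_le fun L hL => ⟨wT L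
    ((by decide : ∀ L ∈ [[1], [3], [4], [8], [7], [5, 7, 5, 2], [6, 8, 7, 3, 6]], ∀ l ∈ L,
      l ∈ [1, 2, 3, 4, 5, 6, 7, 8]) L hL), mem_C1.2 (q4 L hL).2⟩
  have R2 : S 0 ⊓ C1 (wv g [7, 8]) = S 1 := le_antisymm (ge_of_card R1
    ((sylR _ (inf_le_inf_right _ TΓ) (pT.to_le inf_le_left)).trans k1.ge)) R1
  have cj' : ∀ l ∈ [1, 2, 3, 4, 5, 6, 8], Cl Γ (g 1) (g l) := fun l hl => by
    obtain ⟨p, hp, rfl⟩ := (by decide : ∀ l ∈ [1, 2, 3, 4, 5, 6, 8], ∃ p ∈ Lj, p.1 = l) l hl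
    exact cl_of (wΓ p.2) (by simpa using q2 p hp)
  refine ⟨le_rfl, fun x hx _ _ h => (h hx).elim, simple, aut, TΓ, k0,
    fun Q h q => two_le_of h q (by rw [nG]; decide), by decide, by decide, by decide,
    lT 1 (by decide), i2 1 (by decide), z1, zc, fun x hx => ?_, ?_, wT _ (by decide), ?_, q6,
    fun a ha h2 => ?_, nzy, leT fun l hl => subset_closure ⟨lT l hl, i2 l hl⟩, ?_, fun a ha b hb => ?_,
    cE.trans ET, ⟨g 2, ?_, by simpa [Fm.sem] using q10, cj' 2 (by decide)⟩, R2 ▸ k1, sylR, ?_,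
    ⟨_, R1 (S1 ▸ wv_mem_sub g (L := [6, 8, 7, 3, 6]) (by decide)), cl_of (wΓ _) q11, cl_of (wΓ _) q12⟩,
    fun a ha ⟨c, hc, e⟩ => ?_⟩
  · rcases (hE' x (cE ⟨hx.1, centralizer_le (commutator_le_self _) hx.2⟩)).2
      (fun l hl => mem_Cs.1 hx.2 _ (lT l hl)) with rfl | rfl
    exacts [one_mem _, mem_zpowers _]
  · have := cm 2 (by decide) 8 (by decide)
    rwa [show wv g [2, 8, 2, 8] = wv g [1] from q8, wv_cons, wv_nil, one_mul] at this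
  · rw [← wv_append]; exact q7
  · have sT : IsSylowIn 2 (S 0) Γ := ⟨TΓ, pT, fun e => by
      have := card_mul_relIndex TΓ
      rw [k0, nG, NG] at this; omega⟩
    obtain ⟨h, hh, e⟩ := sT.exists_cj_le (two_zpowers (k := 1) (by rw [pow_one, pow_two, h2]))
      (zpowers_le.2 ha)
    have bk : ∀ {t : Ω}, Cl Γ t (h * a * h⁻¹) → Cl Γ t a := fun ⟨c, hc, e⟩ =>
      ⟨h⁻¹ * c, mul_mem (inv_mem hh) hc, by
        rw [mul_inv_rev, inv_inv, mul_assoc h⁻¹, mul_assoc h⁻¹, ← mul_assoc (c * _), e]; group⟩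
    rcases hC' _ (cj_le_iff.1 e a (mem_zpowers a)) (by rw [conj_mul, h2]; group) with f | f | f
    exacts [Or.inl (by simpa using f), Or.inr (Or.inl (bk f)), Or.inr (Or.inr (bk f.1))]
  · set J := closure {a | a ∈ S 0 ∧ Cl Γ (g 1) a}
    have h7 := lT 7 (by decide)
    have hn : g 7 ∈ Ns J := mem_normalizer_fintype fun x hx => by
      refine (closure_le (J.comap (MulAut.conj (g 7)).toMonoidHom)).2 ?_ hx
      rintro a ⟨ha, c, hc, e⟩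
      exact subset_closure ⟨mul_mem (mul_mem h7 ha) (inv_mem h7), g 7 * c, mul_mem (hm 7) hc, by
        rw [← e]; simp [mul_assoc]⟩
    have l : S 0 ≤ zpowers (g 7) ⊔ J := leT fun l hl => by
      by_cases e : l = 7
      · exact e ▸ mem_sup_left (mem_zpowers _)
      · exact mem_sup_right (subset_closure ⟨lT l hl, cj' l
          ((by decide : ∀ l ∈ [1, 2, 3, 4, 5, 6, 7, 8], l ≠ 7 → l ∈ [1, 2, 3, 4, 5, 6, 8]) l hl e)⟩)
    exact (commutator_mono l l).trans (cm_le_sup hn)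
  · exact (hE' a (cE ⟨TΓ ha.1, ha.2⟩)).1 b (cE ⟨TΓ hb.1, hb.2⟩)
  · have := cm 4 (by decide) 5 (by decide)
    rwa [show wv g [4, 5, 4, 5] = wv g [2] from q9, wv_cons, wv_nil, one_mul] at this
  · exact R2.le.trans (S1.le.trans (sub_le fun L hL => subset_closure
      ⟨R1 (S1 ▸ wv_mem_sub g hL), (q4 L hL).1⟩))
  · have y2 : wv g [7, 8] * wv g [7, 8] = 1 := by rw [← wv_append]; exact q7
    rcases hC' a ha (by rw [← e, conj_mul, y2]; group) with f | ⟨d, hd, f⟩ | f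
    · exact (q6 (by simpa [f, Fm.sem] using e)).elim
    · exact (nzy ⟨c⁻¹ * d, mul_mem (inv_mem hc) hd, by
        rw [mul_inv_rev, inv_inv, mul_assoc c⁻¹, mul_assoc c⁻¹, ← mul_assoc (d * _), f, ← e]; group⟩).elim
    · exact f.2

theorem bs : Bs G0 G0 T0 z0 y0 10 7 := by
  have hm := ext_mem MB_ok (by decide) MB_mem
  obtain ⟨e⟩ := iso
  have y : wv MB.m [7, 8] = y0 := ext_wv (by decide)
  have := bs_of (S := fun i => sub MB.m (MB.W i)) hm e.isSimpleGroup inner_G0 card_G0 (y ▸ card_Cy)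
    rfl (PM.card_sub MB_ok MB_subs 0) rfl (PM.card_sub MB_ok MB_subs 1) rfl
    (PM.card_sub MB_ok MB_subs 2) (ext_cen MB_ok MB_cen) (ext_dec MB_ok MB_subs hm MB_C)
    (ext_dec MB_ok MB_subs hm MB_E) (ext_dec MB_ok MB_subs hm MB_Q)
  rwa [y, show sub MB.m (MB.W 0) = T0 from ext_sub (by decide), ext_m (by decide)] at this

end Cfsg.Lib.SC3
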