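import Cfsg.Agent.SC3.Wd

/-! Standard subgroups of type `Co₃`: a generating set of related involutions. -/

set_option autoImplicit false
set_option maxRecDepth 100000
set_option Elab.async false

namespace Cfsg.Lib.SC3

open Subgroup Cfsg.Lib.Spor Cfsg.Lib.Spor.Bulk Cfsg.Lib.Spor.PK Cfsg.Lib.Spor.WF Cfsg.Lib.Gold
open Cfsg.Lib.StdX (Tr3 MuD RlD Clq)
open Cfsg.Lib.StdW (cenF lowC chB_sound)
open Cfsg.Lib.StdM (Cl)

namespace Wd

/-- a chain -/
def cq1 : List Cert :=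
  [⟨255, [16769, 16387, 16517, 16838, 14024, 16265, 16458, 16908, 16645, 15304, 15945, 16714, 17036,
    15688, 15881, 16972, 14600, 15561, 16584, 16201, 17100, 15429, 15818, 15500, 14788, 17226,
    17163, 16074, 15050, 17482, 17419, 17354, 17291, 17610, 17547], [[8, 12, 4, 8, 3], [10, 5, 3]]⟩,
   ⟨262, [16384, 16449, 15936, 16513, 17088, 15489, 16256, 16576, 17601, 16064, 15873, 16896, 15041,
    16704, 17472, 17409, 14593, 17024, 14016, 17217, 15808, 16193, 16641, 17344, 17537, 15680,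
    17280, 14784, 15425, 16960, 16833, 17153, 15552, 15296], [[0, 1, 1, 0, 1, 1, 0, 1, 1, 0, 1, 0,
    0, 1, 0], [0, 1, 1, 0, 0, 1, 1, 0, 0, 1, 0, 0, 1, 0]]⟩,
   ⟨254, [14016, 15873, 15936, 15681, 16192, 14784, 16064, 14592, 15809, 15041, 15552, 15489, 16576,
    15425, 15296], [[1, 0, 1, 0, 0, 1], [0, 1, 0, 1, 0, 0, 0, 0, 0]]⟩,
   ⟨249, [14784, 15424, 16193, 15040, 14593], [[0, 0, 0, 1, 0, 0, 0], [0, 0, 1, 0, 1, 0]]⟩,
   ⟨248, [15552, 15488], [[0, 1], [0, 0, 0]]⟩,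
   ⟨219, [16576, 15297, 15681], [[0, 0]]⟩,
   ⟨0, [64], []⟩]

theorem cq1_ok : cenF MC W13 cq1 2903040 [[2], [3], [9]] 4 = true := by decide +kernel

/-- an involution -/
def wq : List ℕ := [15, 13, 12, 13, 15, 1, 14, 13, 11, 13, 14]

/-- an involution -/
def wa : List ℕ := [13, 11, 10, 13, 15, 1, 14, 13, 9, 12, 13]

/-- a chain -/
def cq2 : List Cert :=
  [⟨269, [17158, 17352, 17609, 16907, 17484, 17412, 17285, 17545, 16971, 17099, 17026, 16332, 16396,
    16844, 16780, 16517, 14024, 16265, 16458, 15688, 15881, 16709, 16584, 16201, 16645, 15304,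
    15945, 14600, 15561, 15429, 15818, 15500, 14788, 15052, 16072], [[11, 12, 8, 5, 12, 11, 9, 12,
    10], [6, 9, 12, 5, 6]]⟩,
   ⟨271, [16384, 17473, 15872, 16577, 16832, 17537, 15552, 17025, 16640, 16065, 15680, 14017, 16320,
    17409, 16192, 16896, 14784, 17280, 16512, 14593, 17088, 15425, 17152, 16704, 16449, 16769,
    15489, 17600, 15937, 15808, 15041, 16256, 15297, 16961], [[0, 0, 0, 1, 0, 1, 0], [1, 1, 1, 0, 0,
    0, 0, 0, 1]]⟩,
   ⟨268, [15040, 15937, 16961, 16896, 14785, 17280, 17601, 17473, 17024, 15488, 16257, 17408, 17536,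
    15553, 16193, 15873, 17088], [[0, 1, 1, 0, 0, 1, 0, 0, 0], [0, 1, 0, 1, 1, 1, 1, 0], [1, 0, 1,
    0, 0, 1, 1, 0]]⟩,
   ⟨274, [16256, 17474, 15873, 16192, 17600, 15937, 17410], [[0, 1, 2, 0], [1], [0, 2, 1, 0], [2, 2]]⟩,
   ⟨10, [4929, 2178, 1410], [[1, 3], [0]]⟩,
   ⟨182, [10880, 12097, 9601], []⟩]

theorem cq2_ok : cenF MC W13 cq2 2903040 [wq, [7], [5, 3, 6]] 2 = true := by decide +kernel

/-- four involutions -/
def wI : List (List ℕ) := [[1], wq, [10, 13, 14, 13, 11, 13, 15, 1, 14, 13, 12, 13, 15, 13, 9],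
  [10, 6, 13, 11, 15, 13, 12, 10, 13, 15, 1, 14, 13, 9, 11, 13, 14, 12, 13, 6, 9]]

/-- a chain -/
def cq3 : List Cert :=
  [⟨0, [64, 2945, 5890, 5699, 6145, 898, 4483, 10560, 11395, 1792, 4289, 8259, 7041, 7554, 2688, 6339,
    128, 16771, 2561, 6658, 9603, 12608, 6913, 5506, 577, 258, 8835, 2112, 2242, 1539, 9217, 3968,
    3075, 8704, 2369, 1283, 7298, 8576, 1089, 1026, 15427, 14913, 8770, 6080, 6402, 13827, 3520,
    4033, 15811, 12096, 1409, 9089, 7746, 2051, 3840, 13442, 1475, 7233, 1344, 3906, 10755, 16387,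
    7105, 3394, 9154, 4160, 963, 768, 4737, 11008, 16515, 5314, 7361, 5440, 11843, 512, 8064, 16323,
    1857, 2626, 320, 12995, 16067, 12161, 14272, 5122, 12739, 8192, 12867, 13312, 16962, 16835, 387,
    11969, 2177, 6019, 640, 12227, 12288, 14146, 1731, 7617, 5059, 11905, 13570, 13376, 14785, 704,
    2306, 4352, 16578, 9923, 14723, 6976, 4097, 195, 12480, 14081, 14530, 15745, 6594, 1986, 1155,
    3136, 12803, 9984, 1217, 3265, 5570, 2880, 16131, 450, 15299, 11714, 4544, 8512, 14595, 3458,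
    1664, 1603, 2432, 14339, 14656, 15362, 13505, 10882, 10818, 9408, 15939, 11776, 7809, 16898,
    16001, 3585, 9666, 6851, 4928, 10051, 11649, 13699, 13952, 15489, 15107, 5824, 4800, 14018,
    4867, 10496, 15041, 15553, 14466, 3203, 8387, 3651, 3329, 16641, 6466, 8451, 833, 13633, 15618,
    17090, 2499, 8899, 7938, 16707, 15683, 14209, 9856, 2755, 14848, 4419, 16259, 14977, 13122,
    17025, 14403, 6720, 5762, 9795, 5635, 3776, 4674, 12352, 9282, 11203, 13250, 5187, 5955, 5248,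
    17347, 17411, 10691, 11136, 2817, 3008, 6528, 9026, 11074, 1923, 10371, 4226, 9538, 5376, 12546,
    12931, 16450, 6208, 13057, 4994, 13185, 9347, 7490, 8640, 7170, 11584, 4609, 15171, 7426, 11520,
    8001, 17603, 7872, 8961, 17217, 6274, 10946, 8129, 13763, 10433, 9731, 8323, 10305, 7680, 11329,
    10625, 11458, 12675, 3715, 13888, 9473, 17475, 6785, 12034, 10240, 17154, 15232, 10176, 17283,
    10112, 12417, 15873, 16193, 11267, 17537], [[0, 1, 3, 1, 0, 2, 0, 1, 3, 1, 0], [1, 3, 2, 1, 0,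
    2, 3, 0, 1, 3, 2]]⟩,
   ⟨1, [13568, 2305, 14081, 5376, 7809, 7169, 10113, 2944, 9025, 10305, 14913, 4801, 12352, 257, 768,
    11009, 10817, 11200, 9729, 2689, 12544, 12929, 193, 8448, 9216, 16321, 16449, 2816, 13633, 2433,
    10497, 12161, 512, 15617, 7489, 4673, 14976, 6465, 321, 14657, 5697, 11072, 8129, 5248, 10689,
    12608, 1473, 384, 14273, 9536, 15297, 15681, 5953, 14848, 12865, 1217, 5312, 4929, 15488, 4033,
    1857, 16256, 2497, 10369, 3712, 6337, 1281, 15552, 7361, 1665, 704, 3073, 9345, 12096, 1409,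
    4353, 7617, 9601, 4416, 8833, 14720, 11777, 16641, 5440, 15361, 13825, 4480, 13953, 128, 6849,
    3264, 6145, 8192, 12673, 10881, 13376, 17281, 961, 16704, 17025, 5761, 3648, 7425, 3009, 16513,
    9857, 4288, 12993, 7040, 17601, 8640, 15041, 4545, 832, 11969, 2240, 8001, 2880, 3137, 13505,
    11457, 6593, 11649, 4865, 17089, 14528, 4609, 8577, 2560, 12737, 15937, 13313, 7232, 10753,
    15233, 6208, 4161, 12225, 5888, 12289, 1153, 15425, 9793, 4097, 6912, 3969, 11584, 5121, 7937,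
    11392, 6401, 11712, 3777, 3584, 15745, 3840, 897, 16961, 14464, 6529, 7745, 2752, 6273, 10240,
    2369, 5568, 7680, 11329, 17217, 7296, 16897, 16576, 8897, 10624, 15168, 15873, 7105, 5505, 8384,
    15809, 12480, 2624, 16833, 11264, 14336, 1921, 6017, 1984, 9665, 2049, 5824, 4737, 16000, 1089,
    16192, 7553, 9984, 6081, 1025, 13248, 8705, 14016, 17153, 641, 3328, 1729, 2113, 1344, 4225,
    17345, 10561, 13889, 8256, 448, 11905, 9473, 12801, 14145, 6977, 17409, 3201, 13696, 12417,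
    3393, 9409, 16065, 12032, 8513, 1792, 5633, 7873, 11841, 577, 10176, 3457, 2177, 14592, 13121,
    14209, 13441, 11521, 9921, 16128, 10433, 13185, 3520, 1537, 8064, 8321, 6785, 9281, 17473, 6657,
    9089, 8961, 6720, 5057, 16769, 14401, 17536, 5185, 13761, 13056, 1601, 4993, 10049, 15104, 3905,
    8769, 14785, 11137, 16385, 9153, 10945], [[1, 0, 1, 1, 1, 1, 0, 1, 1, 1, 1, 0, 1, 1, 1, 1, 1, 1,
    1, 0, 1], [1, 0, 1, 1, 1, 0, 1, 1, 1, 0, 1, 1, 1, 1, 1, 1, 0, 1, 1, 0, 1, 1, 1, 0]]⟩,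
   ⟨2, [4160, 13185, 192, 16641, 14976, 13057, 7616, 1089, 16256, 3393, 16320, 15489, 1664, 15041,
    7552, 1729, 6208, 10881, 14145, 16000, 10049, 1792, 16193, 320, 14401, 13632, 13761, 2624, 6593,
    5440, 16065, 1601, 13248, 15297, 8896, 17153, 15680, 14081, 5184, 7873, 15617, 10176, 16769,
    15553, 8641, 5952, 17025, 17472, 3713, 15744, 6081, 17536, 6657, 8001, 5760, 897, 4928, 384,
    14593, 2304, 16833, 7744, 4673, 5120, 10432, 1153, 1920, 14209, 10368, 12801, 8448, 5825, 6913,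
    17280, 14785, 8705, 6977, 11905, 3840, 15425, 1856, 17088, 5505, 2176, 11520, 2560, 7296, 3456,
    10753, 832, 16577, 4864, 12353, 12416, 12929, 9409, 9344, 9473, 6272, 3200, 3904, 15233, 1216,
    7361, 17344, 8065, 5312, 6785, 13120, 11968, 16512, 16449, 16384, 17217, 2368, 3521, 16960,
    3264, 3649, 449, 16896, 5889, 6337, 1024, 16704, 9536, 4801, 16128, 3137, 12480, 13569, 9280,
    17408, 8129, 11649, 2752, 11265, 3008, 11073, 2432, 5248, 257, 15105, 960, 14017, 8577, 14721,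
    2241, 15872, 13504, 12545, 5568, 15936, 9217, 17600, 4545, 6464, 11008, 15808, 2817, 7488], [[1,
    0, 1, 1, 0, 0, 0, 0, 0, 1, 0, 0], [1, 0, 1, 1, 1, 0, 1, 1, 0, 0, 0, 1, 0, 0, 0, 0]]⟩,
   ⟨3, [4544, 13569, 3520, 1857, 448, 6593, 11520, 17409, 15104, 5249, 16256, 17280, 7489, 10176,
    14977, 16448, 12929, 17537, 1024, 16705, 17024, 10753, 13505, 11073, 321, 2240, 2561, 16321,
    1152, 1921, 14401, 832, 16897, 6912, 1600, 3904, 7361, 1088, 15041, 7872, 13057, 2752, 1665,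
    960, 13760, 2305, 5824, 2177, 14208, 5440, 17345, 15680, 9537, 14081, 1793, 7744, 16961, 257,
    8000, 17601, 15232, 8065, 17472, 5953, 16576, 14720, 17217, 15616, 16769, 6272, 5761, 13184,
    11969, 15744, 12352, 15489, 15425, 10881, 17088, 12481, 5120, 384, 16001, 3200, 11009, 5569,
    17152, 5889, 13248, 3713, 1728, 9344, 7617, 13632, 14144, 15936, 13121, 897, 14592, 2369, 11904,
    12417, 5312, 16129], [[0, 1, 0, 1, 0, 1, 0, 1, 1, 1, 1], [0, 0, 1, 1, 1, 0, 1, 1, 0, 1, 1, 1, 0,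
    0]]⟩,
   ⟨4, [2752, 16769, 5120, 13185, 5888, 11073, 16320, 17217, 14720, 1729, 5248, 14401, 17536, 17152,
    833, 13632, 1601, 14145, 4544, 1089, 1920, 12353, 5824, 1025, 320, 16961, 10752, 2241, 6912,
    6593, 3200, 16704, 17601, 1153, 8000, 15233, 17408, 11968, 16256, 2368, 11008, 897, 13056,
    17089, 13249, 960, 16576, 7744, 7360, 11520, 15104, 10176, 17344, 3521, 7488, 15745, 5313,
    10881, 13761, 15041, 14592, 17280, 16129], [[1, 1, 0, 1, 1, 0, 1, 0, 0], [0, 0, 1, 0, 0, 0, 1,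
    1]]⟩,
   ⟨5, [16320, 12353, 14592, 16129, 3520], []⟩]

theorem cq3_ok : lowC MC wI cq3 495766656000 = true := by decide +kernel

theorem tr0 : Tr3 G0 G0 (E [1]) (E [2]) 1 := by
  refine ⟨cmw (by decide +kernel), E [14], E_mem rfl, cjw _ (by decide +kernel),
    (cjw _ (by decide +kernel)).trans (mulw _ _).symm, fun k hk => ⟨hk.1, fun c => Or.inl ?_⟩⟩
  have cm : ∀ L, okW L = true ∧ eqB ([1] ++ L) (L ++ [1]) = true ∧
      eqB ([2] ++ L) (L ++ [2]) = true → Commute k (E L) := fun L h =>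
    (mem_centralizer_iff.1 hk.2 _ ⟨⟨E_mem h.1, mem_C1.2 (cmw h.2.1)⟩, mem_C1.2 (cmw h.2.2)⟩).symm
  have mem : ∀ L, okW L = true ∧ eqB ([1] ++ L) (L ++ [1]) = true ∧
      (∀ x ∈ [[2], [3], [9]], eqB (x ++ L) (L ++ x) = true) →
      E L ∈ sub MC.m W13 ⊓ Cs (sub MC.m [[2], [3], [9]]) := fun L h =>
    memK (E_mem h.1) (cmw h.2.1) fun x hx => cmw (h.2.2 x hx)
  rcases mem_four (cenK cq1_ok) (mem [1] (by decide +kernel)) (mem [2] (by decide +kernel))
    (ne1 (by decide +kernel)) (ne1 (by decide +kernel)) (new (by decide +kernel))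
    (mulw _ _ ▸ ne1 (by decide +kernel)) (memK hk.1 (cm _ (by decide +kernel)) fun L hL => cm L
      ((by decide +kernel : ∀ L ∈ [[2], [3], [9]], okW L = true ∧ eqB ([1] ++ L) (L ++ [1]) = true ∧
        eqB ([2] ++ L) (L ++ [2]) = true) L hL)) with e | e | e | e
  · exact e
  all_goals
    rw [e] at c
    have c' := c.eq
    repeat rw [mulw] at c'
    exact absurd c' (new (by decide +kernel))

theorem tr (C : List ℕ) {A B : List ℕ} {f : P276} (h : okW C = true ∧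
    eqB ([1] ++ C) (C ++ A) = true ∧ eqB ([2] ++ C) (C ++ B) = true) :
    Tr3 G0 G0 (E A) (E B) f := by
  have := tr0.conj le_rfl (E_mem h.1)
  rw [cjw C h.2.1, cjw C h.2.2, mul_one, mul_inv_cancel] at this
  exact this.weak

theorem mu0 : MuD G0 G0 z0 (E [1]) (E [2]) :=
  MuD.cube (c := E [3]) ⟨1, one_mem _, by simp [z0]⟩ tr0
    (mulw _ _ ▸ tr [8, 13, 6] (by decide +kernel)) (mulw _ _ ▸ tr [13, 15] (by decide +kernel))
    (tr [13, 14] (by decide +kernel)) (new (by decide +kernel)) (new (by decide +kernel))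
    (mulw _ _ ▸ new (by decide +kernel))

theorem mu (C : List ℕ) {A B : List ℕ} (h : okW C = true ∧
    eqB ([1] ++ C) (C ++ A) = true ∧ eqB ([2] ++ C) (C ++ B) = true) :
    MuD G0 G0 z0 (E A) (E B) := by
  have := mu0.conj (E_mem h.1)
  rwa [cjw C h.2.1, cjw C h.2.2] at this

theorem rl0 : RlD G0 G0 z0 (E [1]) (E wq) := by
  refine RlD.trip (p := E [2]) (a₁ := E [1]) (a₂ := E wa) (q₀ := E wq) (g₁ := 1)
    (g₂ := E [13, 10, 11, 13, 14, 13, 9, 12, 13]) (g₃ := E [12, 6, 13, 10, 6, 14, 13, 11, 13, 14]) mu0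
    (mu [8, 14, 13, 11, 13, 14] (by decide +kernel)) ((cjw _ (by decide +kernel)).trans (mulw _ _).symm)
    (mu [13, 9, 12, 13] (by decide +kernel)) (one_mem _) (E_mem rfl) (E_mem rfl)
    (Or.inl ⟨by simp, by simp⟩) (Or.inl ⟨cjw _ (by decide +kernel), cjw _ (by decide +kernel)⟩)
    (Or.inr ⟨cjw _ (by decide +kernel), (cjw _ (by decide +kernel)).trans (mulw _ _).symm⟩)
    fun k hk => ⟨hk.1.1.1, fun _ _ => ?_⟩
  have cm : ∀ L, okW L = true ∧ eqB ([1] ++ L) (L ++ [1]) = true ∧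
      eqB (wq ++ L) (L ++ wq) = true → Commute k (E L) := fun L h =>
    (mem_centralizer_iff.1 hk.1.1.2 _ ⟨⟨E_mem h.1, mem_C1.2 (cmw h.2.1)⟩, mem_C1.2 (cmw h.2.2)⟩).symm
  refine (mem_two (cenK cq2_ok) (a := E [2]) (memK (E_mem rfl) (cmw (by decide +kernel)) fun x hx =>
    cmw ((by decide +kernel : ∀ x ∈ [wq, [7], [5, 3, 6]], eqB (x ++ [2]) ([2] ++ x) = true) x hx))
    (ne1 (by decide +kernel)) (memK hk.1.1.1 (mem_C1.1 hk.1.2) fun L hL => ?_)).imp_right fun e => ?_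
  · simp only [List.mem_cons, List.not_mem_nil, or_false] at hL
    rcases hL with rfl | rfl | rfl
    exacts [mem_C1.1 hk.2, cm _ (by decide +kernel), cm _ (by decide +kernel)]
  · refine Or.inr (Or.inl ?_)
    rw [e, cjw (B := [13, 11, 10, 13, 15, 13, 12, 9, 13, 2, 13, 10, 11, 13, 14, 13, 9, 12, 13]) _ (by decide +kernel),
      cjw (B := [13, 2, 13, 1]) _ (by decide +kernel), mulw]
    exact mu [13] (by decide +kernel)

theorem rl (C : List ℕ) {A B : List ℕ} (h : okW C = true ∧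
    eqB ([1] ++ C) (C ++ A) = true ∧ eqB (wq ++ C) (C ++ B) = true) :
    RlD G0 G0 z0 (E A) (E B) := by
  have := rl0.conj (E_mem h.1)
  rwa [cjw C h.2.1, cjw C h.2.2] at this

theorem rf (C : List ℕ) {A : List ℕ} (h : okW C = true ∧ eqB ([1] ++ C) (C ++ A) = true) :
    RlD G0 G0 z0 (E A) (E A) := RlD.refl ⟨_, E_mem h.1, z_eq ▸ cjw C h.2⟩

end Wd

open Wd in
theorem clq : Clq G0 G0 z0 := by
  refine ⟨{a | a ∈ wI.map E}, StdW.ge_of_card (sub_le fun L hL => E_mem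
    ((by decide : ∀ L ∈ wI, okW L = true) L hL)) (card_G0 ▸ (chB_sound MC_ok cq3_ok).1), ?_⟩
  have h20 := rl [8, 14, 13, 12, 13, 15, 13, 9] (A := wI.getD 2 []) (B := wI.getD 0 [])
    (by decide +kernel)
  have h30 := rl [6, 13, 6, 14, 13, 9, 11, 13, 14, 12, 13, 6, 9] (A := wI.getD 3 []) (B := wI.getD 0 [])
    (by decide +kernel)
  have h21 := rl [13, 10, 11, 13, 7, 14, 13, 12, 13, 15, 13, 9] (A := wI.getD 2 []) (B := wI.getD 1 [])
    (by decide +kernel)
  have h31 := rl [4, 13, 10, 12, 13, 12, 13, 10, 13, 9, 14, 13, 9, 11, 13, 14, 12, 13, 6, 9] (A := wI.getD 3 []) (B := wI.getD 1 [])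
    (by decide +kernel)
  have h32 := rl [6, 13, 10, 11, 4, 14, 13, 9, 11, 13, 14, 12, 13, 6, 9] (A := wI.getD 3 []) (B := wI.getD 2 [])
    (by decide +kernel)
  have h01 := rl0
  have h00 := rf [] (A := wI.getD 0 []) (by decide +kernel)
  have h11 := rf [14, 13, 11, 13, 14] (A := wI.getD 1 []) (by decide +kernel)
  have h22 := rf [14, 13, 12, 13, 15, 13, 9] (A := wI.getD 2 []) (by decide +kernel)
  have h33 := rf [14, 13, 9, 11, 13, 14, 12, 13, 6, 9] (A := wI.getD 3 []) (by decide +kernel)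
  intro i hi j hj
  simp only [wI, List.map_cons, List.map_nil, List.mem_cons, List.not_mem_nil, or_false,
    Set.mem_ofPred_eq] at hi hj
  rcases hi with rfl | rfl | rfl | rfl <;> rcases hj with rfl | rfl | rfl | rfl
  exacts [h00, h01, h20.symm, h30.symm, h01.symm, h11, h21.symm, h31.symm, h20, h21, h22, h32.symm, h30, h31, h32, h33]

end Cfsg.Lib.SC3
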