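import Cfsg.Agent.SC3.Wd

/-! Standard subgroups of type `Co₃`: the centraliser of the non-central involution. -/

set_option autoImplicit false
set_option maxRecDepth 100000
set_option Elab.async false

namespace Cfsg.Lib.SC3

open Subgroup Cfsg.Lib.Spor Cfsg.Lib.Spor.Bulk Cfsg.Lib.Spor.PK Cfsg.Lib.Spor.WF Cfsg.Lib.Gold
open Cfsg.Lib.Trans
open Cfsg.Lib.StdX (Nc)
open Cfsg.Lib.StdW (cenF cen_of cenC_of_fast)
open Cfsg.Lib.StdM (Cl)
open scoped commutatorElement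

namespace Wd

section abs

variable {Ω : Type*} [Group Ω]

theorem perf_aux {C D : Subgroup Ω} {y : Ω} (hy : ∀ x ∈ C, Commute x y) (hD : D ≤ C)
    (h : ∀ x ∈ C, x ∈ D ∨ y * x ∈ D) : ⁅C, C⁆ ≤ ⁅D, D⁆ := by
  refine commutator_le.2 fun a ha b hb => ?_
  have k1 : ∀ a ∈ C, ∀ b ∈ C, ⁅y * a, b⁆ = ⁅a, b⁆ := fun a ha b hb => by
    have := hy _ (mul_mem (mul_mem ha hb) (inv_mem ha))
    simp only [commutatorElement_def]
    calc y * a * b * (y * a)⁻¹ * b⁻¹ = y * (a * b * a⁻¹) * y⁻¹ * b⁻¹ := by group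
      _ = _ := by rw [← this.eq]; group
  have k2 : ∀ a ∈ C, ∃ a' ∈ D, ∀ b ∈ C, ⁅a', b⁆ = ⁅a, b⁆ := fun a ha =>
    (h a ha).elim (fun h => ⟨a, h, fun _ _ => rfl⟩) fun h => ⟨_, h, k1 a ha⟩
  obtain ⟨a', ha', e1⟩ := k2 a ha
  obtain ⟨b', hb', e2⟩ := k2 b hb
  rw [← e1 b hb, ← commutatorElement_inv, ← e2 a' (hD ha'), commutatorElement_inv]
  exact commutator_mem_commutator ha' hb'

/-- the product of a subgroup with a commuting involution -/
def Hy (D : Subgroup Ω) (y : Ω) (y2 : y * y = 1) : Subgroup Ω where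
  carrier := {x | Commute x y ∧ (x ∈ D ∨ y * x ∈ D)}
  one_mem' := ⟨Commute.one_left _, .inl (one_mem _)⟩
  mul_mem' := by
    rintro a b ⟨ca, ha⟩ ⟨cb, hb⟩
    refine ⟨ca.mul_left cb, ?_⟩
    rcases ha with ha | ha <;> rcases hb with hb | hb
    · exact .inl (mul_mem ha hb)
    · exact .inr (by rw [← mul_assoc, ← ca.eq, mul_assoc]; exact mul_mem ha hb)
    · exact .inr (by rw [← mul_assoc]; exact mul_mem ha hb)
    · refine .inl ?_
      have := mul_mem ha hb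
      rwa [← ca.eq, mul_assoc, ← mul_assoc y, y2, one_mul] at this
  inv_mem' := by
    rintro a ⟨ca, ha⟩
    refine ⟨ca.inv_left, ha.imp inv_mem fun ha => ?_⟩
    have := inv_mem ha
    rwa [mul_inv_rev, inv_eq_of_mul_eq_one_right y2, ca.inv_left.eq] at this

theorem two_el {K : Subgroup Ω} {f y k : Ω} (hK : Nat.card K = 22) (hf : f ∈ K) (hy : y ∈ K)
    (f11 : f ^ 11 = 1) (f1 : f ≠ 1) (y2 : y * y = 1) (y1 : y ≠ 1) (c : Commute f y) (hk : k ∈ K)
    {i : ℕ} (hi : k ^ 2 ^ i = 1) : k = 1 ∨ k = y := by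
  have : Finite K := Nat.finite_of_card_ne_zero (by omega)
  have : Fact (Nat.Prime 11) := ⟨by norm_num⟩
  have y2' : y ^ 2 = 1 := by rw [pow_two, y2]
  have of : orderOf f = 11 := orderOf_eq_prime f11 f1
  have oy : orderOf y = 2 := orderOf_eq_prime y2' y1
  have e : zpowers (f * y) = K := eq_of_le_of_card_ge (zpowers_le.2 (mul_mem hf hy)) (by
    rw [hK, Nat.card_zpowers, c.orderOf_mul_eq_mul_orderOf_of_coprime (by rw [of, oy]; norm_num),
      of, oy])
  obtain ⟨j, rfl⟩ := mem_zpowers_iff.1 (e ▸ hk)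
  rw [c.mul_zpow] at hi ⊢
  have hb : (y ^ j) ^ 2 = 1 := by rw [← zpow_natCast, ← zpow_mul, mul_comm, zpow_mul]; simp [y2']
  have ha : (f ^ j) ^ 11 = 1 := by rw [← zpow_natCast, ← zpow_mul, mul_comm, zpow_mul]; simp [f11]
  have h2 : (f ^ j) ^ 2 ^ (i + 1) = 1 := by
    have := congrArg (· ^ 2) hi
    simp only [one_pow] at this
    rwa [← pow_mul, ← pow_succ, (c.zpow_zpow j j).mul_pow, pow_succ' 2 i, pow_mul (y ^ j), hb,
      one_pow, mul_one, ← pow_succ' 2 i] at this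
  rw [(pow_eq_one_iff_of_coprime (Nat.Coprime.pow_right (i + 1) (by norm_num : Nat.Coprime 11 2))).1
    ⟨ha, h2⟩, one_mul]
  exact mem_two (by rw [Nat.card_zpowers, oy]) (mem_zpowers y) y1 (zpow_mem (mem_zpowers y) j)

end abs

/-- a word lies in the centraliser of `y` -/
noncomputable def cB (U : List ℕ) : Bool := okW U && eqB ([7, 8] ++ U) (U ++ [7, 8])

theorem memCy {U : List ℕ} (h : cB U = true) : E U ∈ G0 ⊓ C1 y0 := by
  simp only [cB, Bool.and_eq_true] at h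
  exact ⟨E_mem h.1, mem_C1.2 (cmw h.2)⟩

theorem memD (U V : List ℕ) {A : List ℕ}
    (h : (cB U && cB V && eqB (U ++ V ++ A) (V ++ U)) = true) : E A ∈ Dy G0 y0 := by
  simp only [Bool.and_eq_true] at h
  have e : E A = ⁅E U, E V⁆ := by
    rw [commutatorElement_def, mul_assoc, ← mul_inv_rev, eq_mul_inv_iff_mul_eq, mulw, mulw, mulw]
    exact eqw h.2
  exact e ▸ commutator_mem_commutator (memCy h.1.1) (memCy h.1.2)

theorem yy : y0 * y0 = 1 := (mulw [7, 8] [7, 8]).trans (eqw (B := []) (by decide +kernel))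

theorem y_ne : y0 ≠ 1 := ne1 (A := [7, 8]) (by decide +kernel)

theorem D_le : Dy G0 y0 ≤ G0 ⊓ C1 y0 := commutator_le.2 fun _ ha _ hb =>
  mul_mem (mul_mem (mul_mem ha hb) (inv_mem ha)) (inv_mem hb)

theorem gensD : ∀ L ∈ Wy, E L ∈ Dy G0 y0 ∨ E (L ++ [7, 8]) ∈ Dy G0 y0 := by
  simp only [Wy, List.forall_mem_cons, List.not_mem_nil, IsEmpty.forall_iff, implies_true,
    and_true]
  exact ⟨.inl (memD [7] [5, 7, 5, 2] (by decide +kernel)),
    .inl (memD [4] [7] (by decide +kernel)),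
    .inl (memD [3] [10] (by decide +kernel)),
    .inr (memD [3] [9, 13, 9, 11, 15, 6, 13] (by decide +kernel)),
    .inl (memD [3] [9, 13, 9, 11, 15, 6, 13] (by decide +kernel)),
    .inl (memD [7] [9] (by decide +kernel)),
    .inr (memD [3] [9, 13, 6, 14, 12, 10, 13, 7] (by decide +kernel)),
    .inl (memD [8, 5, 7, 5, 2] [9] (by decide +kernel)),
    .inr (memD [13, 6, 14, 12, 10, 13] [4, 6, 7, 6, 7, 5] (by decide +kernel))⟩

theorem perf : Dy G0 y0 ≤ ⁅Dy G0 y0, Dy G0 y0⁆ := by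
  refine perf_aux (y := y0) (fun x hx => mem_C1.1 hx.2) D_le fun x hx => ?_
  have h : sub MC.m Wy ≤ Hy (Dy G0 y0) y0 yy := sub_le fun L hL =>
    ⟨mem_C1.1 (Cy_eq.ge (wv_mem_sub MC.m hL)).2, (gensD L hL).imp id fun h => mulw _ _ ▸ h⟩
  exact (h (Cy_eq.le hx)).2

/-- an element of order 11 -/
def wf : List ℕ := [13, 6, 14, 12, 10, 13, 10, 13, 9, 11, 15, 6, 13, 9]

theorem fD : E wf ∈ Dy G0 y0 := memD [9] [13, 9, 11, 15, 6, 13] (by decide +kernel)

theorem powE (A : List ℕ) (k : ℕ) : E A ^ k = E (List.replicate k A).flatten := by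
  induction k with
  | zero => simp
  | succ k ih => rw [pow_succ, ih, mulw, List.replicate_succ, List.flatten_cons]

theorem f11 : E wf ^ 11 = 1 := (powE _ _).trans (eqw (B := []) (by decide +kernel))

theorem f1 : E wf ≠ 1 := ne1 (by decide +kernel)

theorem nf : Nc G0 z0 y0 (E wf) := fun J hf hJ => by
  have h : ∀ C, cB C = true → E C * E wf * (E C)⁻¹ ∈ J := fun C hC =>
    (mem_normalizer_iff.1 (hJ (memCy hC)) _).1 hf
  have := mul_mem (h [13, 9, 11, 15, 6, 13] (by decide +kernel))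
    (h [4, 5, 7, 6, 7, 6, 13, 6, 14, 12, 10, 13] (by decide +kernel))
  rw [cjw _ (B := [1, 13, 9, 11, 15, 6, 13, 10, 13, 9, 11, 15, 6, 13, 10, 7, 13, 9, 11, 15, 6, 13])
      (by decide +kernel),
    cjw _ (B := [7, 13, 6, 14, 12, 10, 13, 10, 13, 6, 14, 12, 10, 13, 1, 9, 13, 6, 14, 12, 10, 13])
      (by decide +kernel), mulw, eqw (B := [1]) (by decide +kernel), ← z_eq] at this
  exact ⟨z0, this, 1, one_mem _, by simp⟩

/-- a chain -/
def cy1 : List Cert :=
  [⟨266, [16898, 17091, 17482, 17419, 16780, 16963, 17226, 17163, 16332, 17610, 17547, 16844, 17356,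
    16645, 16390, 15304, 15945, 16714, 17291, 16517, 14024, 16265, 16458, 16584, 16201, 15432,
    14793, 15688, 15881, 14597, 16074, 15556, 15050, 15818, 15500], [[2, 10, 8, 12, 10], [12, 8, 5,
    12, 5, 9, 12]]⟩,
   ⟨265, [17408, 16897, 16704, 17601, 17152, 16192, 14593, 17536, 16320, 17217, 16512, 16257, 16448,
    17473, 15424, 14017, 17088, 15680, 15809, 15552, 17280, 15488, 15936, 16385, 15296, 14785,
    16768, 17345, 15873, 15040, 16576, 16640, 16832, 16065], [[1, 0, 1, 0, 1, 0, 1], [1, 0, 0, 1, 0,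
    0, 0, 1, 0]]⟩,
   ⟨264, [17344, 16576, 17153, 14592, 15425, 17600, 17217, 14016, 15296, 15808, 17409, 16064, 17281,
    17536, 17473, 15681, 17088], [[0, 1, 0, 0, 0, 0, 0, 0, 0, 1, 0], [0, 1, 0, 0, 1, 1, 0, 0, 0],
    [0, 0, 1, 0, 1, 0, 1, 1, 0]]⟩,
   ⟨219, [15809, 16578, 14592, 15680, 15425, 16064, 15297], [[1, 0, 0, 2, 0, 1], [0]]⟩,
   ⟨255, [16448, 16833, 16512], [[1, 0]]⟩,
   ⟨248, [15936], [[0, 0]]⟩,
   ⟨0, [64], []⟩]

theorem cy1_ok : cenF MC W13 cy1 2903040 [[9], [4, 8]] 4 = true := by decide +kernel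

/-- a chain -/
def cy2 : List Cert :=
  [⟨121, [5504, 5057, 4612, 6597, 12102, 9608, 8009, 1546, 7115, 12876, 1421, 7822, 10497, 7428, 3461,
    9481, 778, 4043, 12172, 2189, 9422, 9284, 8197, 11654, 10887, 5641, 4746, 11019, 11980, 653,
    5134, 11523, 4997, 6471, 4809, 522, 4683, 11788, 3208, 1098, 6667, 8780, 7246, 6213, 5450, 7947,
    14220, 2757, 2378, 5387, 13260, 7629, 10180, 1610, 8075, 12940, 8526, 5892, 2117, 76, 1357,
    1806, 6402, 1219, 9804, 7501, 8270, 13382, 13127, 14344, 13449, 13066, 14283, 13965, 15502,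
    4929, 1483, 7692, 10816, 10629, 7562, 6539, 11593, 2890, 9227, 13516, 1290, 12748, 330, 3531,
    10436, 2314, 7307, 13196, 4293, 12, 270, 3074, 451, 9036, 7181, 14407, 14856, 14986, 14923,
    12237, 15054, 8324, 138, 2251, 9356, 3146, 5771, 10373, 2058, 1674, 11844, 10309, 7370, 4875,
    14476, 4365, 4554, 5259, 13708, 842, 5707, 1028, 581, 972, 5314, 4099, 8460, 13574, 14728,
    14798, 715, 3402, 8651, 6026, 4235, 11910, 2442, 9739, 12492, 908, 14537, 14605, 14158, 3275,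
    10764, 5573, 4483, 12044, 1866, 8843, 12358, 6283, 9667, 11462, 14663, 16008, 12682, 13645,
    16206, 10054, 202, 2827, 9923, 12999, 15752, 14093, 15886, 1995, 11331, 12294, 2698, 10251,
    1924, 8140, 9154, 11276, 13829, 15565, 8901, 8712, 1157, 3012, 2636, 6083, 3336, 6860, 4174,
    2508, 5960, 6796, 16078, 15625, 13771, 15821, 16131, 16462, 9100, 15694, 16334, 13898, 16267,
    14028, 6979, 7884, 12806, 10123, 6918, 2954, 15369, 15437, 10956, 6154, 8971, 9548, 9986, 12428,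
    13317, 389, 2563, 3788, 4428, 15113, 15243, 16718, 16590, 16782, 15178, 15947, 10694, 1738,
    8395, 11398, 8586, 12614, 6346, 5836, 11206, 11147, 3906, 3653, 7043, 16654, 15308, 5196, 9861,
    16525, 3971, 10562, 6726, 12554, 3724, 3852, 16846, 16398, 11084, 11724, 16908, 3590, 17036,
    17100, 16972, 17226, 17163, 17482, 17419, 17610, 17547, 17354, 17291], [[0, 10, 5, 12, 10, 4],
    [0, 14, 10, 12, 10, 6]]⟩,
   ⟨0, [9472, 11393, 7936, 9025, 10112, 2177, 8576, 14657, 10240, 2305, 13184, 4097, 9408, 8449, 9856,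
    11329, 1920, 12929, 14273, 8192, 6913, 3905, 15232, 14529, 704, 2369, 6976, 3585, 9216, 1409,
    5248, 7361, 640, 10049, 12992, 6016, 16513, 10688, 11521, 7104, 8513, 4288, 9729, 4544, 4865,
    12224, 14209, 6528, 5569, 2112, 11265, 4992, 4353, 5761, 12608, 8897, 2432, 1216, 833, 12097,
    5952, 1984, 1665, 17216, 4225, 8256, 3201, 5056, 9345, 896, 8641, 3009, 7872, 2625, 449, 385,
    13121, 13504, 8961, 15681, 14912, 11073, 5184, 961, 14080, 12352, 2240, 3137, 14336, 8321,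
    10561, 10176, 10625, 15616, 4928, 3841, 7424, 1537, 11905, 13760, 11584, 12289, 17088, 13697,
    13568, 10753, 9600, 577, 7232, 7681, 14848, 1473, 10944, 2945, 7552, 10432, 5633, 15104, 15361,
    6592, 12801, 13825, 15489, 9792, 14721, 15808, 2048, 16641, 8704, 13889, 13248, 6785, 12416,
    6465, 12865, 1792, 17281, 2881, 3072, 1281, 5120, 4032, 10881, 9536, 5825, 3520, 5440, 5377,
    3264, 7488, 11649, 16896, 16193, 15553, 12673, 4608, 5889, 9984, 4160, 6849, 17537, 13952,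
    12161, 10304, 4480, 1089, 6400, 513, 5312, 768, 4800, 6656, 11776, 14784, 13633, 16321, 15296,
    17472, 7169, 5696, 65, 11009, 6720, 3776, 16129, 3649, 2496, 16065, 2560, 4417, 16768, 16385,
    7040, 1729, 8129, 129, 3329, 11137, 7617, 13056, 12481, 1153, 6336, 14401, 9665, 320, 11969,
    17152, 16576, 13377, 10369, 6080, 6145, 13312, 8064, 1601, 16705, 257, 11713, 9921, 1857, 192,
    8384, 3393, 14976, 2688, 14145, 15424, 13441, 3713, 17344, 15936, 16960, 17601, 8833, 8000,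
    11201, 10817, 7296, 12032, 2752, 15745, 6208, 7809, 4673, 16832, 16000, 6273, 9088, 3969, 11457,
    3456, 15873, 16448, 14016, 12736, 9153, 8768, 12545, 15168, 2817, 14464, 14593, 17024, 1025,
    17409, 4737, 11841, 16257, 9281, 15040, 1344, 10497, 5505], [[0, 0, 1, 0, 1, 1, 1, 0, 0, 0, 0,
    1, 1, 0, 0, 0, 0], [0, 0, 0, 1, 1, 1, 1, 0, 0, 1, 1, 0, 0, 1, 0, 1, 1]]⟩,
   ⟨166, [14720, 11073, 192, 15425, 12224, 10177, 2688, 769, 14208, 16833, 6912, 10049, 14528, 16385,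
    12096, 3073, 7680, 6337, 5888, 12929, 1408, 6528, 13761, 14400, 1025, 9472, 1601, 3776, 4801,
    7617, 9793, 14592, 3457, 16000, 15745, 15488, 5313, 13120, 3649, 3201, 960, 7297, 15808, 6272,
    9985, 3520, 4545, 11392, 4353, 11008, 15873, 320, 12545, 5761, 5056, 15041, 11648, 16769, 5504,
    13249, 64, 17217, 3008, 1921, 10368, 3969, 7872, 5825, 4608, 12481, 6720, 15168, 11905, 7553,
    16256, 8384, 5248, 3137, 6400, 10881, 10560, 15297, 16960, 11201, 576, 13057, 11584, 12992,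
    15233, 2880, 10945, 17600, 17280, 6593, 14657, 3392, 641, 9344, 11329, 9217, 8256, 12609, 14016,
    8193, 13824, 15553, 7936, 8513, 5568, 3264, 16641, 12352, 8896, 1536, 4481, 256, 5121, 2304,
    11968, 7488, 16577, 17537, 9024, 15360, 10113, 1152, 17472, 6464, 17025, 449, 384, 14913, 16192,
    3905, 9664, 6784, 4096, 9857, 2177, 8576, 129, 13376, 8001, 2752, 2368, 8129, 8064, 2945, 9728,
    13953, 2561, 5441, 5696, 7169, 13697, 2432, 2049, 3712, 12737, 17088, 15616], [[1, 0, 0, 0, 1,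
    0, 0, 1, 0, 1, 1, 1, 1, 1], [1, 0, 0, 1, 0, 0, 0, 1, 1, 1]]⟩,
   ⟨200, [14784, 6081, 10304, 13889, 2240, 11265, 9920, 9281, 10816, 16129, 4032, 3841, 10240, 12673,
    8704, 2624, 1473, 16320, 14144, 1793, 12160, 7104, 15105, 4416, 2113, 17152, 4993, 832, 1089,
    16897, 8448, 9408, 9537, 8640, 13185, 6977, 4672, 9089, 7361, 5184, 6145, 2817, 11520, 3329,
    15936, 1280, 4865, 12416, 16064, 11841, 4928, 5952, 7233, 11136, 10753], [[0, 1, 1, 1, 1, 1, 1,
    1, 0, 0, 1, 0], [1, 1, 0, 0, 0, 1, 0, 1, 1, 0]]⟩,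
   ⟨50, [6912, 7489, 3008, 7872, 3777, 1920, 11328, 14017, 9985, 16000, 17216, 16385, 5312, 13825,
    12352, 4608, 14593, 16256, 8064], [[1, 0, 1, 0, 1, 0, 0, 0, 1, 1], [1, 0, 1, 1, 1, 0]]⟩,
   ⟨171, [17536, 17473, 10112, 257, 16576, 2752, 15297, 15232, 4545, 14209, 14720, 4801, 15168, 8512,
    11904, 7617, 13697], [[0, 1, 0, 1]]⟩,
   ⟨155, [7360], []⟩]

theorem cy2_ok : cenF MC [[1],[2],[3],[4],[5],[6],[7],[8],[9],[10],[11],[12],[13],[14],[15]] cy2
    495766656000 [wf] 22 = true := by decide +kernel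

theorem card_Cf : Nat.card ↥(G0 ⊓ C1 (E wf)) = 22 := by
  have := cen_of MC_ok card_G0.le (cenC_of_fast MC_ok card_G0.le cy2_ok)
  rwa [StdW.sub_one] at this

theorem c11 : ∀ x ∈ G0, x ≠ 1 → x ^ 11 = 1 →
    ∃ u, Cl G0 y0 u ∧ ∀ k ∈ G0 ⊓ C1 x, (∃ i, k ^ 2 ^ i = 1) → k = 1 ∨ k = u := by
  intro x hx x1 x11
  have : Fact (Nat.Prime 11) := ⟨by norm_num⟩
  have cz : Nat.card (zpowers (E wf)) = 11 := by rw [Nat.card_zpowers, orderOf_eq_prime f11 f1]
  have fC := D_le fD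
  obtain ⟨g, hg, hgx⟩ := C3R.exists_conj_mem_of_prime (p := 11) (by norm_num)
    (C := zpowers (E wf)) (H := G0) (by
      rw [C3R.relIndex_of_card (zpowers_le.2 fC.1) (n := 45069696000) cz card_G0]; norm_num) hx x11
  refine ⟨g⁻¹ * y0 * g, ⟨g⁻¹, inv_mem hg, by rw [inv_inv]⟩, fun k hk ⟨i, hi⟩ => ?_⟩
  have e : zpowers (g * x * g⁻¹) = zpowers (E wf) := eq_of_le_of_card_ge (zpowers_le.2 hgx) (by
    rw [cz, Nat.card_zpowers, orderOf_eq_prime (p := 11) (by rw [conj_pow, x11]; simp)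
      (by simpa using x1)])
  obtain ⟨j, hj⟩ := mem_zpowers_iff.1 (e.ge (mem_zpowers _))
  have c : Commute (g * k * g⁻¹) (g * x * g⁻¹) := Commute.conj (mem_C1.1 hk.2) g
  have := two_el (k := g * k * g⁻¹) (y := y0) card_Cf ⟨fC.1, mem_C1.2 rfl⟩
    ⟨wv_mem_G0 _, mem_C1.2 (mem_C1.1 fC.2).symm⟩ f11 f1 yy y_ne (mem_C1.1 fC.2)
    ⟨G0.mul_mem (G0.mul_mem hg hk.1) (G0.inv_mem hg), mem_C1.2 (hj ▸ c.zpow_right j)⟩ (i := i)
    (by rw [conj_pow, hi]; simp)
  rcases this with h | h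
  · exact .inl (by simpa using h)
  · exact .inr (by rw [← h]; group)

theorem sq_ok : MC.dec (.all 3 40 (.bind 41 [40, 40] (.imp (.eq [41, 41] [])
    (.or (.eq [41] []) (.or (.eq [41] [1]) (.or (.eq [41] [3]) (.eq [41] [3, 1]))))))) = true := by
  decide +kernel

theorem sq4 : ∀ x ∈ G0 ⊓ C1 y0, x * x * (x * x) = 1 →
    x * x = 1 ∨ Cl (G0 ⊓ C1 y0) z0 (x * x) := by
  intro x hx h4
  have hS : IsSylowIn 2 (sub MC.m WR) (G0 ⊓ C1 y0) := Co3M.sylow_of_card (n := 7) (m := 1485)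
    (Cy_eq ▸ sub_le fun L hL => wv_mem_sub MC.m ((by decide : ∀ L ∈ WR, L ∈ Wy) L hL)) card_R
    card_Cy (by norm_num)
  have hp : IsPGroup 2 (zpowers x) := fun g => ⟨2, Subtype.ext (by
    obtain ⟨j, hj⟩ := mem_zpowers_iff.1 g.2
    have : x ^ 4 = 1 := by rw [← h4]; simp only [pow_succ, pow_zero, one_mul, mul_assoc]
    rw [SubgroupClass.coe_pow, ← hj, ← zpow_natCast, ← zpow_mul, mul_comm, zpow_mul]
    simp [this])⟩
  obtain ⟨c, hc, hle⟩ := hS.exists_cj_le hp (zpowers_le.2 hx)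
  have hr : c * x * c⁻¹ ∈ sub MC.m (MC.W 3) := hle (mem_cj.2 (by
    rw [show c⁻¹ * (c * x * c⁻¹) * c = x by group]; exact mem_zpowers x))
  have h := (PM.dec_iff MC_ok MC_subs _).1 sq_ok _ hr
  have e : c * x * c⁻¹ * (c * x * c⁻¹) = c * (x * x) * c⁻¹ := by group
  have k : ∀ C A, (cB C && eqB ([1] ++ C) (C ++ A)) = true → c * (x * x) * c⁻¹ = E A →
      Cl (G0 ⊓ C1 y0) z0 (x * x) := fun C A h e => by
    simp only [Bool.and_eq_true] at h
    refine ⟨c⁻¹ * E C, mul_mem (inv_mem hc) (memCy h.1), ?_⟩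
    calc _ = c⁻¹ * (E C * E [1] * (E C)⁻¹) * c := by rw [z_eq]; group
      _ = _ := by rw [cjw C h.2, ← e]; group
  simp only [Fm.sem, wv_cons, wv_nil, upd_apply, one_mul, if_true, e] at h
  rcases h (by rw [show c * (x * x) * c⁻¹ * (c * (x * x) * c⁻¹) = c * (x * x * (x * x)) * c⁻¹ by
    group, h4]; simp) with h | h | h | h
  · exact .inl (by simpa using h)
  · exact .inr (k [] [1] (by decide +kernel) (by simpa using h))
  · exact .inr (k [13, 6, 14, 12, 10, 13] [3] (by decide +kernel) (by simpa using h))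
  · exact .inr (k [13, 9, 11, 15, 6, 13] [3, 1] (by decide +kernel) (by simpa using h))

theorem cM : G0 ⊓ Cs (Dy G0 y0 ⊓ C1 z0) ≤ C1 y0 := fun k hk => by
  have h : ∀ A, E A ∈ Dy G0 y0 → eqB ([1] ++ A) (A ++ [1]) = true → Commute k (E A) :=
    fun A h1 h2 => (mem_centralizer_iff.1 hk.2 _ ⟨h1, mem_C1.2 (z_eq ▸ cmw h2)⟩).symm
  have m : ∀ A, (okW A && eqB ([1] ++ A) (A ++ [1]) && eqB ([9] ++ A) (A ++ [9]) &&
      eqB ([4, 8] ++ A) (A ++ [4, 8])) = true →
      E A ∈ sub MC.m W13 ⊓ Cs (sub MC.m [[9], [4, 8]]) := fun A h => by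
    simp only [Bool.and_eq_true] at h
    exact memK (E_mem h.1.1.1) (cmw h.1.1.2) (by simpa using ⟨cmw h.1.2, cmw h.2⟩)
  have hk' := memK (xs := [[9], [4, 8]]) hk.1
    (h _ (memD [7] [5, 7, 5, 2] (by decide +kernel)) (by decide +kernel))
    (List.forall_mem_cons.2 ⟨h _ (memD [7] [9] (by decide +kernel)) (by decide +kernel),
      List.forall_mem_singleton.2
        (h _ (memD [4] [13, 9, 11, 15, 6, 13] (by decide +kernel)) (by decide +kernel))⟩)
  have hz : E [1] ∈ C1 y0 := (memCy (by decide +kernel)).2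
  have hy : E [7, 8] ∈ C1 y0 := mem_C1.2 rfl
  rcases mem_four (cenK cy1_ok) (m [1] (by decide +kernel)) (m [7, 8] (by decide +kernel))
    (ne1 (by decide +kernel)) y_ne (new (by decide +kernel))
    (by rw [mulw]; exact ne1 (by decide +kernel)) hk' with e | e | e | e <;> rw [e]
  exacts [one_mem _, hz, hy, mul_mem hz hy]

end Wd

open Wd

theorem fy : ∃ f w ν, FY G0 z0 y0 f w ν :=
  ⟨E wf, E [7, 5, 7, 5, 2], E [2],
    { perf := perf, fM := fD, f11 := f11, f1 := f1, nf := nf, c11 := c11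
      wM := memD [7] [6, 7, 6, 7, 5] (by decide +kernel)
      w2 := by rw [mulw, z_eq]; exact eqw (by decide +kernel)
      sq4 := sq4
      ν0 := ⟨wv_mem_G0 _, Wd.mem_C1.2 (z_eq ▸ cmw (by decide +kernel))⟩
      νy := (cjw _ (A := [7, 8]) (B := [1, 7, 8]) (by decide +kernel)).trans
        (by rw [z_eq]; exact (mulw [7, 8] [1]).symm)
      cM := cM }⟩

end Cfsg.Lib.SC3
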