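import Cfsg.Agent.SC3.MBs
import Cfsg.Agent.Co3R.StdD

/-! The centraliser of a 2-central involution in the model of `Co₃`. -/

set_option autoImplicit false
set_option maxRecDepth 100000

namespace Cfsg.Lib.SC3

open Subgroup Cfsg.Lib.Trans Cfsg.Lib.StdSz Cfsg.Lib.StdW Cfsg.Lib.SGn
open Cfsg.Lib.Gold hiding mem_Cs mem_C1
open Cfsg.Lib.Spor Cfsg.Lib.Spor.Bulk Cfsg.Lib.Spor.WF
open scoped commutatorElement

theorem fz : FZ G0 z0 := by
  have hp := HN.dc_perfect' C3R.commutator_Sp dc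
  refine ⟨?_, fun φ => ?_⟩
  · have := congrArg (map (G0 ⊓ C1 z0).subtype) hp
    rw [_root_.commutator_def, map_commutator, ← MonoidHom.range_eq_map, range_subtype] at this
    exact this.ge
  · obtain ⟨π, s, k⟩ := HN.dc_exists_proj dc
    obtain ⟨γ, hγ⟩ := HN.exists_aut_bar s k φ
    obtain ⟨m, rfl⟩ := HN.eq_conj_of_inn s k hp hγ (C3R.inn_Sp γ)
    exact ⟨m, m.2, fun x => rfl⟩

/-- equations -/
def fA : Fm := .and (.eq [6, 8, 6, 8] [5]) (.and (.eq [4, 5, 4, 5] [2]) (.and (.not (.eq [2] []))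
  (.and (.eq [2, 14, 8] [14, 8, 2]) (.and (.eq [15, 14] []) (.and (.eq [4, 4] []) (.and (.eq [5, 5] [])
  (.and (.eq [6, 6] []) (.eq [8, 8] []))))))))

theorem MC_A : MC.dec fA = true := by decide +kernel

theorem al : Al G0 T0 z0 := by
  have h := (PM.dec_iff MC_ok MC_subs _).1 MC_A
  simp only [fA, Fm.sem, wv_cons, wv_nil, one_mul] at h
  obtain ⟨q1, q2, q3, q4, q5, i4, i5, i6, i8⟩ := h
  have lT : ∀ l, [l] ∈ W8' → MC.m l ∈ T0 := fun l hl =>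
    one_mul (MC.m l) ▸ (wv_mem_sub MC.m hl :)
  have e : ⁅⁅MC.m 8, MC.m 6⁆, MC.m 4⁆ = MC.m 2 := by rw [cm_inv i8 i6, q1, cm_inv i5 i4, q2]
  have lz : ∀ l, 1 ≤ l → l ≤ 13 → MC.m l ∈ (G0 ⊓ C1 z0) ⊔ (G0 ⊓ C1 (MC.m 2)) := fun l a b =>
    mem_sup_left (Cz_eq ▸ by
      simpa using wv_mem_sub MC.m (L := [l]) (W := [[1],[2],[3],[4],[5],[6],[7],[8],[9],[10],[11],
        [12],[13]]) (by interval_cases l <;> decide))
  have l14 : MC.m 14 ∈ (G0 ⊓ C1 z0) ⊔ (G0 ⊓ C1 (MC.m 2)) :=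
    (mul_mem_cancel_left (lz 8 (by decide) (by decide))).1 (mem_sup_right
      ⟨mul_mem (m_mem _) (m_mem _), mem_C1.2 (q4.trans (mul_assoc _ _ _))⟩)
  refine ⟨_, lT 8 (by decide), _, lT 6 (by decide), _, lT 4 (by decide), e ▸ q3, e ▸ sub_le ?_⟩
  simp only [List.forall_mem_cons, wv_cons, wv_nil, one_mul]
  refine ⟨?_, ?_, ?_, ?_, ?_, ?_, ?_, ?_, ?_, ?_, ?_, ?_, ?_, l14,
    eq_inv_of_mul_eq_one_right q5 ▸ inv_mem l14, by simp⟩ <;> exact lz _ (by decide) (by decide)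

end Cfsg.Lib.SC3
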