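import Cfsg.Agent.SC3.ModC
import Cfsg.Agent.SC3.Defs
import Cfsg.Agent.Pat.QTC3

/-! A permutation model of `Co₃` on 276 points. -/

set_option autoImplicit false
set_option maxRecDepth 100000

namespace Cfsg.Lib.SC3

open Subgroup Cfsg.Lib.Spor Cfsg.Lib.Spor.Bulk Cfsg.Lib.Spor.PK Cfsg.Lib.Spor.WF
open Cfsg.Lib.Gold Cfsg.Lib.Trans Cfsg.Lib.StdSz Cfsg.Lib.StdW

/-- permutations of the 276 points -/
abbrev P276 := Equiv.Perm (Fin MC.n)

/-- the group `Co₃` -/
noncomputable def G0 : Subgroup P276 :=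
  sub MC.m [[1],[2],[3],[4],[5],[6],[7],[8],[9],[10],[11],[12],[13],[14],[15]]

/-- a Sylow 2-subgroup -/
noncomputable def T0 : Subgroup P276 := sub MC.m [[1],[2],[3],[4],[5],[6],[7],[8]]

/-- a 2-central involution -/
noncomputable def z0 : P276 := MC.m 1

/-- a non-central involution -/
noncomputable def y0 : P276 := wv MC.m [7, 8]

/-- generators of the centraliser of `y0` -/
def Wy : List (List ℕ) :=
  [[1], [3], [4], [7], [8], [9], [5, 7, 5, 2], [6, 7, 6, 7, 5], [13, 9, 11, 15, 6, 13]]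

/-- generators of the centraliser of `y0` in `T0` -/
def WR : List (List ℕ) := [[1], [3], [4], [7], [8], [5, 7, 5, 2], [6, 7, 6, 7, 5]]

theorem G0_eq_1' : type_of% @G0.eq_1 := @G0.eq_1

theorem T0_eq_1' : type_of% @T0.eq_1 := @T0.eq_1

theorem z0_eq_1' : type_of% @z0.eq_1 := @z0.eq_1

theorem y0_eq_1' : type_of% @y0.eq_1 := @y0.eq_1

theorem Wy_eq_1' : type_of% @Wy.eq_1 := @Wy.eq_1

theorem WR_eq_1' : type_of% @WR.eq_1 := @WR.eq_1

theorem sat : Sat MC.m 16 C3R.iC C3R.rG := PM.sat MC_ok MC_sat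

namespace ModA

theorem ck1 : MC.dec (.not (.eq [1] [])) = true := by decide +kernel

theorem ck2 : MC.dec (C3R.eqsFm ((MC.W 1).map fun L => (L ++ [1], [1] ++ L))) = true := by
  decide +kernel

theorem ck3 : MC.dec (C3R.eqsFm (Wy.map fun L => (L ++ [7, 8], [7, 8] ++ L))) = true := by
  decide +kernel

theorem wv_app {G : Type*} [Group G] (g : ℕ → G) (A B : List ℕ) :
    wv g (A ++ B) = wv g B * wv g A := by
  induction A with
  | nil => simp
  | cons a A ih => simp [ih, mul_assoc]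

theorem le_C1 {W : List (List ℕ)} {x : List ℕ}
    (h : MC.dec (C3R.eqsFm (W.map fun L => (L ++ x, x ++ L))) = true) :
    sub MC.m W ≤ C1 (wv MC.m x) := sub_le fun L hL => by
  have := C3R.eqsFm_sem ((PM.dec_iff MC_ok MC_subs _).1 h) _ (List.mem_map_of_mem hL)
  simp only [wv_app] at this
  exact mem_centralizer_singleton_iff.2 this.symm

end ModA

theorem z0_ne : z0 ≠ 1 := fun e => by
  have := (PM.dec_iff MC_ok MC_subs _).1 ModA.ck1
  exact this (by simpa [Fm.sem, z0] using e)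

theorem m_mem (l : ℕ) : MC.m l ∈ G0 := by
  by_cases h : l < 16
  · by_cases e : l = 0
    · rw [e, sat.zero]; exact one_mem _
    · simpa [G0] using wv_mem_sub MC.m (L := [l])
        ((by decide : ∀ l < 16, l ≠ 0 → [l] ∈
          [[1],[2],[3],[4],[5],[6],[7],[8],[9],[10],[11],[12],[13],[14],[15]]) l h e)
  · rw [PM.m, lf, List.getD_eq_default _ _ (by
      simpa using (show MC.cs.length ≤ 16 by decide).trans (not_lt.1 h))]
    exact one_mem _

theorem wv_mem_G0 (L : List ℕ) : wv MC.m L ∈ G0 := wv_mem _ fun l _ => m_mem l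

theorem sub_le_G0 (W : List (List ℕ)) : sub MC.m W ≤ G0 := sub_le fun L _ => wv_mem_G0 L

theorem iso_s : Nonempty (CK.sCo3 ≃* G0) := by
  obtain ⟨φ, a, b⟩ := C3R.exists_emb sat z0_ne
  exact ⟨(MonoidHom.ofInjective a).trans (MulEquiv.subgroupCongr b)⟩

theorem iso : Nonempty (G0 ≃* Spor.Co3) := ⟨iso_s.some.symm.trans CK.sCo3Equiv⟩

theorem card_G0 : Nat.card G0 = 495766656000 :=
  (Nat.card_congr iso_s.some.toEquiv).symm.trans CK.card_sCo3

theorem card_T0 : Nat.card T0 = 1024 :=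
  (PM.card_sub MC_ok MC_subs 0).trans (by decide +kernel)

theorem card_R : Nat.card (sub MC.m WR) = 128 :=
  (PM.card_sub MC_ok MC_subs 3).trans (by decide +kernel)

theorem card_Cz : Nat.card ↥(G0 ⊓ C1 z0) = 2903040 := by
  have := cen_of MC_ok card_G0.le (cenC_of_fast MC_ok card_G0.le cen_z)
  rw [sub_one] at this
  simpa [G0, z0] using this

theorem card_Cy : Nat.card ↥(G0 ⊓ C1 y0) = 190080 := by
  have := cen_of MC_ok card_G0.le (cenC_of_fast MC_ok card_G0.le cen_y)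
  rwa [sub_one] at this

theorem Cz_eq : G0 ⊓ C1 z0 =
    sub MC.m [[1],[2],[3],[4],[5],[6],[7],[8],[9],[10],[11],[12],[13]] :=
  (eq_of_le_of_card_ge (le_inf (sub_le_G0 _) (by simpa [z0] using ModA.le_C1 ModA.ck2))
    (card_Cz.trans ((PM.card_sub MC_ok MC_subs 1).trans (by decide +kernel)).symm).le).symm

theorem Cy_eq : G0 ⊓ C1 y0 = sub MC.m Wy :=
  (eq_of_le_of_card_ge (le_inf (sub_le_G0 _) (ModA.le_C1 ModA.ck3))
    (card_Cy.trans ((PM.card_sub MC_ok MC_subs 2).trans (by decide +kernel)).symm).le).symm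

theorem dc : IsNonsplitDoubleCover ↥(G0 ⊓ C1 z0) C3R.Sp := by
  let m : ℕ → G0 := fun l => ⟨MC.m l, m_mem l⟩
  have hs : Sat m 16 C3R.iC C3R.rG :=
    ⟨Subtype.ext sat.zero, fun l hl => Subtype.ext (sat.inv l hl), fun r hr =>
      Subtype.ext ((wv_map G0.subtype m r).symm.trans (sat.rel r hr))⟩
  have e : (G0 ⊓ C1 z0).subgroupOf G0 = Pat.Cn (m 1) := by
    ext x
    simp only [mem_subgroupOf, mem_inf, mem_centralizer_singleton_iff, x.2, true_and,
      Subtype.ext_iff]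
    rfl
  have φ : ↥(G0 ⊓ C1 z0) ≃* Pat.Cn (m 1) :=
    (subgroupOfEquivOfLe inf_le_left).symm.trans (MulEquiv.subgroupCongr e)
  refine C3R.dc_congr φ (Pat.co3_aux card_G0 hs (fun e => z0_ne (congrArg Subtype.val e))
    ((Nat.card_congr φ.toEquiv).symm.trans card_Cz).le (map_injective G0.subtype_injective ?_))
  rw [sub_map, ← MonoidHom.range_eq_map, range_subtype]
  rfl

end Cfsg.Lib.SC3
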