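import Cfsg.Agent.SC3.Mod
import Cfsg.Agent.StdW.Fast
import Cfsg.Agent.Co3M.Kit2

/-! Standard subgroups of type `Co₃`: words in the permutation model. -/

set_option autoImplicit false
set_option maxRecDepth 100000

namespace Cfsg.Lib.SC3.Wd

open Subgroup Cfsg.Lib.Spor Cfsg.Lib.Spor.Bulk Cfsg.Lib.Spor.PK Cfsg.Lib.Spor.WF Cfsg.Lib.Gold
open Cfsg.Lib.Co3M (bare w_eq w_ne emb_refl)
open Cfsg.Lib.StdW (cenF cen_of cenC_of_fast)

/-- the value of a word -/
noncomputable abbrev E (L : List ℕ) : P276 := wv MC.m L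

/-- two words are equal -/
noncomputable abbrev eqB (A B : List ℕ) : Bool := (bare MC).dec (.eq A B)

/-- two words are different -/
noncomputable abbrev neB (A B : List ℕ) : Bool := (bare MC).dec (.not (.eq A B))

/-- the letters are generators -/
def okW (L : List ℕ) : Bool := L.all fun l => Nat.ble 1 l && Nat.ble l 15

/-- generators of the centraliser of `z` -/
def W13 : List (List ℕ) := [[1],[2],[3],[4],[5],[6],[7],[8],[9],[10],[11],[12],[13]]

theorem E_mem {L : List ℕ} (h : okW L = true) : E L ∈ G0 := wv_mem _ fun l hl => by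
  have := List.all_eq_true.1 h l hl
  simp only [Bool.and_eq_true, Nat.ble_eq] at this
  have h2 : ∀ l < 16, 1 ≤ l →
    [l] ∈ [[1],[2],[3],[4],[5],[6],[7],[8],[9],[10],[11],[12],[13],[14],[15]] := by decide
  simpa [G0] using wv_mem_sub MC.m (h2 l (by omega) this.1)

theorem eqw {A B : List ℕ} (h : eqB A B = true) : E A = E B := w_eq MC_ok (emb_refl _) h

theorem new {A B : List ℕ} (h : neB A B = true) : E A ≠ E B := w_ne MC_ok (emb_refl _) h

theorem mulw (A B : List ℕ) : E A * E B = E (B ++ A) := (wv_append _ _ _).symm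

theorem cjw (C : List ℕ) {A B : List ℕ} (h : eqB (A ++ C) (C ++ B) = true) :
    E C * E A * (E C)⁻¹ = E B := by
  rw [mul_inv_eq_iff_eq_mul, mulw, mulw]; exact eqw h

theorem cmw {A B : List ℕ} (h : eqB (B ++ A) (A ++ B) = true) : Commute (E A) (E B) := by
  rw [Commute, SemiconjBy, mulw, mulw]; exact eqw h

theorem ne1 {A : List ℕ} (h : neB A [] = true) : E A ≠ 1 := new h

theorem mem_C1 {Ω : Type*} [Group Ω] {a g : Ω} : g ∈ C1 a ↔ g * a = a * g :=
  mem_centralizer_singleton_iff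

theorem z_eq : z0 = E [1] := by simp [z0]

theorem card13 : Nat.card (sub MC.m W13) ≤ 2903040 := by
  rw [← card_Cz, Cz_eq]; exact le_rfl

theorem cenK {xs : List (List ℕ)} {c : ℕ} {cert : List Cert}
    (h : cenF MC W13 cert 2903040 xs c = true) :
    Nat.card ↥(sub MC.m W13 ⊓ Cs (sub MC.m xs)) = c :=
  cen_of MC_ok card13 (cenC_of_fast MC_ok card13 h)

theorem memCs {xs : List (List ℕ)} {k : P276} (h : ∀ L ∈ xs, Commute k (E L)) :
    k ∈ Cs (sub MC.m xs) :=
  mem_centralizer_iff.2 fun _ hu => mem_C1.1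
    (sub_le (H := C1 k) (fun L hL => mem_C1.2 (h L hL).symm) hu)

theorem memK {xs : List (List ℕ)} {k : P276} (h0 : k ∈ G0) (h1 : Commute k (E [1]))
    (h : ∀ L ∈ xs, Commute k (E L)) : k ∈ sub MC.m W13 ⊓ Cs (sub MC.m xs) :=
  ⟨Cz_eq.le ⟨h0, mem_C1.2 (z_eq ▸ h1)⟩, memCs h⟩

theorem mem_two {Ω : Type*} [Group Ω] {K : Subgroup Ω} (h : Nat.card K = 2) {a k : Ω}
    (ha : a ∈ K) (a1 : a ≠ 1) (hk : k ∈ K) : k = 1 ∨ k = a := by
  have : Finite K := Nat.finite_of_card_ne_zero (by omega)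
  have h1 : ({1, a} : Set Ω) = K := Set.eq_of_subset_of_ncard_le (by
    rintro _ (rfl | rfl)
    exacts [one_mem _, ha]) (by rw [Set.ncard_pair a1.symm]; exact h.le) (Set.toFinite _)
  exact h1.ge hk

theorem mem_four {Ω : Type*} [Group Ω] {K : Subgroup Ω} (h : Nat.card K = 4) {a b k : Ω}
    (ha : a ∈ K) (hb : b ∈ K) (a1 : a ≠ 1) (b1 : b ≠ 1) (ab : a ≠ b) (ab1 : a * b ≠ 1)
    (hk : k ∈ K) : k = 1 ∨ k = a ∨ k = b ∨ k = a * b := by
  have : Finite K := Nat.finite_of_card_ne_zero (by omega)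
  have h1 : ({1, a, b, a * b} : Set Ω) = K := Set.eq_of_subset_of_ncard_le (by
    rintro _ (rfl | rfl | rfl | rfl)
    exacts [one_mem _, ha, hb, mul_mem ha hb]) (by
      rw [Set.ncard_insert_of_notMem (by simp [a1.symm, b1.symm, ab1.symm]),
        Set.ncard_insert_of_notMem (by simp [ab, b1]), Set.ncard_pair (by simp [a1])]
      exact h.le) (Set.toFinite _)
  exact h1.ge hk

end Cfsg.Lib.SC3.Wd
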